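import Cfsg.Agent.M24.Chain

/-! # The model of the Held group: witnesses -/

set_option autoImplicit false
set_option linter.all false
set_option maxRecDepth 100000

namespace Cfsg.Agent.HeR

noncomputable def witCs_1 (q : ℕ) : ℕ :=
  (@Bool.rec (fun _ => ℕ) (nat_lit 45537) (@Bool.rec (fun _ => ℕ) (nat_lit 1388) (nat_lit 16101857) (Nat.ble q (nat_lit 157706705786))) (Nat.ble q (nat_lit 157759299563)))
noncomputable def witCs_2 (q : ℕ) : ℕ :=
  (@Bool.rec (fun _ => ℕ) (nat_lit 11936101) (@Bool.rec (fun _ => ℕ) (nat_lit 482710986) (nat_lit 11438) (Nat.ble q (nat_lit 998771822981))) (Nat.ble q (nat_lit 1064477255614)))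
noncomputable def witCs_3 (q : ℕ) : ℕ :=
  (@Bool.rec (fun _ => ℕ) (nat_lit 16101864) (@Bool.rec (fun _ => ℕ) (nat_lit 15087914) (nat_lit 471311) (Nat.ble q (nat_lit 1321861493268))) (Nat.ble q (nat_lit 1322866414318)))
noncomputable def witCs_4 (q : ℕ) : ℕ :=
  (@Bool.rec (fun _ => ℕ) (nat_lit 15087947) (@Bool.rec (fun _ => ℕ) (nat_lit 15403) (nat_lit 16101647) (Nat.ble q (nat_lit 1431714069654))) (Nat.ble q (nat_lit 1523688275892)))
noncomputable def witCs_5 (q : ℕ) : ℕ :=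
  (@Bool.rec (fun _ => ℕ) (nat_lit 44424) (@Bool.rec (fun _ => ℕ) (nat_lit 1381) (nat_lit 16094600) (Nat.ble q (nat_lit 1555963599157))) (Nat.ble q (nat_lit 1600191655102)))
noncomputable def witCs_6 (q : ℕ) : ℕ :=
  (@Bool.rec (fun _ => ℕ) (nat_lit 15023471) (@Bool.rec (fun _ => ℕ) (nat_lit 482621832) (nat_lit 14671) (Nat.ble q (nat_lit 2025614950970))) (Nat.ble q (nat_lit 2028404916328)))
noncomputable def witCs_7 (q : ℕ) : ℕ :=
  (@Bool.rec (fun _ => ℕ) (nat_lit 474479) (@Bool.rec (fun _ => ℕ) (nat_lit 469387) (nat_lit 482719914) (Nat.ble q (nat_lit 2256935681093))) (Nat.ble q (nat_lit 2341864144692)))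
noncomputable def witCs_8 (q : ℕ) : ℕ :=
  (@Bool.rec (fun _ => ℕ) (nat_lit 492901) (@Bool.rec (fun _ => ℕ) (nat_lit 366) (nat_lit 15085002) (Nat.ble q (nat_lit 2627747990738))) (Nat.ble q (nat_lit 2823271811444)))
noncomputable def witCs_9 (q : ℕ) : ℕ :=
  (@Bool.rec (fun _ => ℕ) (@Bool.rec (fun _ => ℕ) (@Bool.rec (fun _ => ℕ) (witCs_8 q) (witCs_7 q) (Nat.ble q (nat_lit 2471637671546))) (@Bool.rec (fun _ => ℕ) (witCs_6 q) (witCs_5 q) (Nat.ble q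
  (nat_lit 1602034996536))) (Nat.ble q (nat_lit 2066626834803))) (@Bool.rec (fun _ => ℕ) (@Bool.rec (fun _ => ℕ) (witCs_4 q) (witCs_3 q) (Nat.ble q (nat_lit 1423249262809))) (@Bool.rec (fun _ => ℕ)
  (witCs_2 q) (witCs_1 q) (Nat.ble q (nat_lit 160482664294))) (Nat.ble q (nat_lit 1314395082481))) (Nat.ble q (nat_lit 1539040258742)))
noncomputable def witCs_10 (q : ℕ) : ℕ :=
  (@Bool.rec (fun _ => ℕ) (nat_lit 44206) (@Bool.rec (fun _ => ℕ) (nat_lit 14731) (nat_lit 15081829) (Nat.ble q (nat_lit 3066091897502))) (Nat.ble q (nat_lit 3106567548397)))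
noncomputable def witCs_11 (q : ℕ) : ℕ :=
  (@Bool.rec (fun _ => ℕ) (nat_lit 16151624744) (@Bool.rec (fun _ => ℕ) (nat_lit 12645) (nat_lit 15380878794) (Nat.ble q (nat_lit 3267037545575))) (Nat.ble q (nat_lit 3333249459462)))
noncomputable def witCs_12 (q : ℕ) : ℕ :=
  (@Bool.rec (fun _ => ℕ) (nat_lit 365963) (@Bool.rec (fun _ => ℕ) (nat_lit 15773064) (nat_lit 503265) (Nat.ble q (nat_lit 3354132974534))) (Nat.ble q (nat_lit 3380765051204)))
noncomputable def witCs_13 (q : ℕ) : ℕ :=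
  (@Bool.rec (fun _ => ℕ) (nat_lit 480740709) (@Bool.rec (fun _ => ℕ) (nat_lit 15088097) (nat_lit 1) (Nat.ble q (nat_lit 3608602135399))) (Nat.ble q (nat_lit 3613604580856)))
noncomputable def witCs_14 (q : ℕ) : ℕ :=
  (@Bool.rec (fun _ => ℕ) (nat_lit 0) (@Bool.rec (fun _ => ℕ) (nat_lit 480655692) (nat_lit 15020491) (Nat.ble q (nat_lit 3843086766568))) (Nat.ble q (nat_lit 3901203544779)))
noncomputable def witCs_15 (q : ℕ) : ℕ :=
  (@Bool.rec (fun _ => ℕ) (nat_lit 15) (@Bool.rec (fun _ => ℕ) (nat_lit 11436) (nat_lit 15183339) (Nat.ble q (nat_lit 4548249012125))) (Nat.ble q (nat_lit 4645871547942)))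
noncomputable def witCs_16 (q : ℕ) : ℕ :=
  (@Bool.rec (fun _ => ℕ) (nat_lit 469390) (@Bool.rec (fun _ => ℕ) (nat_lit 16104492) (nat_lit 471521) (Nat.ble q (nat_lit 4649684424759))) (Nat.ble q (nat_lit 4652622362521)))
noncomputable def witCs_17 (q : ℕ) : ℕ :=
  (@Bool.rec (fun _ => ℕ) (nat_lit 471498) (@Bool.rec (fun _ => ℕ) (nat_lit 15183338) (nat_lit 15088008) (Nat.ble q (nat_lit 4657731446962))) (Nat.ble q (nat_lit 4687775338252)))
noncomputable def witCs_18 (q : ℕ) : ℕ :=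
  (@Bool.rec (fun _ => ℕ) (@Bool.rec (fun _ => ℕ) (@Bool.rec (fun _ => ℕ) (witCs_17 q) (witCs_16 q) (Nat.ble q (nat_lit 4657342272196))) (@Bool.rec (fun _ => ℕ) (witCs_15 q) (witCs_14 q) (Nat.ble q
  (nat_lit 3903307381363))) (Nat.ble q (nat_lit 4646674280008))) (@Bool.rec (fun _ => ℕ) (@Bool.rec (fun _ => ℕ) (witCs_13 q) (witCs_12 q) (Nat.ble q (nat_lit 3383237544656))) (@Bool.rec (fun _ => ℕ)
  (witCs_11 q) (witCs_10 q) (Nat.ble q (nat_lit 3212904183209))) (Nat.ble q (nat_lit 3352930240025))) (Nat.ble q (nat_lit 3822612569544)))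
noncomputable def witCs_19 (q : ℕ) : ℕ :=
  (@Bool.rec (fun _ => ℕ) (nat_lit 1414536) (@Bool.rec (fun _ => ℕ) (nat_lit 43) (nat_lit 12559) (Nat.ble q (nat_lit 4699360840132))) (Nat.ble q (nat_lit 4788831063312)))
noncomputable def witCs_20 (q : ℕ) : ℕ :=
  (@Bool.rec (fun _ => ℕ) (nat_lit 15773164) (@Bool.rec (fun _ => ℕ) (nat_lit 471307) (nat_lit 12652) (Nat.ble q (nat_lit 4975223485171))) (Nat.ble q (nat_lit 4976214856458)))
noncomputable def witCs_21 (q : ℕ) : ℕ :=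
  (@Bool.rec (fun _ => ℕ) (nat_lit 1423) (@Bool.rec (fun _ => ℕ) (nat_lit 15724) (nat_lit 14668) (Nat.ble q (nat_lit 5138577054356))) (Nat.ble q (nat_lit 5138789368026)))
noncomputable def witCs_22 (q : ℕ) : ℕ :=
  (@Bool.rec (fun _ => ℕ) (nat_lit 491) (@Bool.rec (fun _ => ℕ) (nat_lit 15717) (nat_lit 16104805) (Nat.ble q (nat_lit 5461579104977))) (Nat.ble q (nat_lit 5551355814727)))
noncomputable def witCs_23 (q : ℕ) : ℕ :=
  (@Bool.rec (fun _ => ℕ) (nat_lit 374743397) (@Bool.rec (fun _ => ℕ) (nat_lit 15088009) (nat_lit 1416) (Nat.ble q (nat_lit 5599613368183))) (Nat.ble q (nat_lit 5604227748525)))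
noncomputable def witCs_24 (q : ℕ) : ℕ :=
  (@Bool.rec (fun _ => ℕ) (nat_lit 460) (@Bool.rec (fun _ => ℕ) (nat_lit 14827) (nat_lit 395) (Nat.ble q (nat_lit 5670603171487))) (Nat.ble q (nat_lit 5724983815642)))
noncomputable def witCs_25 (q : ℕ) : ℕ :=
  (@Bool.rec (fun _ => ℕ) (nat_lit 503183) (@Bool.rec (fun _ => ℕ) (nat_lit 469391) (nat_lit 492908) (Nat.ble q (nat_lit 5765007190227))) (Nat.ble q (nat_lit 5765541893221)))
noncomputable def witCs_26 (q : ℕ) : ℕ :=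
  (@Bool.rec (fun _ => ℕ) (nat_lit 45413) (@Bool.rec (fun _ => ℕ) (nat_lit 45265163) (nat_lit 469483) (Nat.ble q (nat_lit 5957404649016))) (Nat.ble q (nat_lit 6001710002979)))
noncomputable def witCs_27 (q : ℕ) : ℕ :=
  (@Bool.rec (fun _ => ℕ) (@Bool.rec (fun _ => ℕ) (@Bool.rec (fun _ => ℕ) (witCs_26 q) (witCs_25 q) (Nat.ble q (nat_lit 5768949958896))) (@Bool.rec (fun _ => ℕ) (witCs_24 q) (witCs_23 q) (Nat.ble q
  (nat_lit 5667624492115))) (Nat.ble q (nat_lit 5763116229824))) (@Bool.rec (fun _ => ℕ) (@Bool.rec (fun _ => ℕ) (witCs_22 q) (witCs_21 q) (Nat.ble q (nat_lit 5140552802850))) (@Bool.rec (fun _ => ℕ)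
  (witCs_20 q) (witCs_19 q) (Nat.ble q (nat_lit 4790672824012))) (Nat.ble q (nat_lit 5137655011116))) (Nat.ble q (nat_lit 5560213864585)))
noncomputable def witCs_28 (q : ℕ) : ℕ :=
  (@Bool.rec (fun _ => ℕ) (nat_lit 469473) (@Bool.rec (fun _ => ℕ) (nat_lit 1450465) (nat_lit 480740719) (Nat.ble q (nat_lit 6193579499879))) (Nat.ble q (nat_lit 6251643420121)))
noncomputable def witCs_29 (q : ℕ) : ℕ :=
  (@Bool.rec (fun _ => ℕ) (nat_lit 503275) (@Bool.rec (fun _ => ℕ) (nat_lit 12555) (nat_lit 480652741) (Nat.ble q (nat_lit 7098001565737))) (Nat.ble q (nat_lit 7452507503730)))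
noncomputable def witCs_30 (q : ℕ) : ℕ :=
  (@Bool.rec (fun _ => ℕ) (nat_lit 504738063) (@Bool.rec (fun _ => ℕ) (nat_lit 14) (nat_lit 15020492) (Nat.ble q (nat_lit 7743344925665))) (Nat.ble q (nat_lit 7748505764323)))
noncomputable def witCs_31 (q : ℕ) : ℕ :=
  (@Bool.rec (fun _ => ℕ) (nat_lit 504738273) (@Bool.rec (fun _ => ℕ) (nat_lit 44204) (nat_lit 481) (Nat.ble q (nat_lit 7813213655693))) (Nat.ble q (nat_lit 7813256554423)))
noncomputable def witCs_32 (q : ℕ) : ℕ :=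
  (@Bool.rec (fun _ => ℕ) (nat_lit 1482) (@Bool.rec (fun _ => ℕ) (nat_lit 15023461) (nat_lit 1484) (Nat.ble q (nat_lit 7818132982058))) (Nat.ble q (nat_lit 7879702746072)))
noncomputable def witCs_33 (q : ℕ) : ℕ :=
  (@Bool.rec (fun _ => ℕ) (nat_lit 15089089) (@Bool.rec (fun _ => ℕ) (nat_lit 463) (nat_lit 480649697) (Nat.ble q (nat_lit 8020408533386))) (Nat.ble q (nat_lit 8198345844511)))
noncomputable def witCs_34 (q : ℕ) : ℕ :=
  (@Bool.rec (fun _ => ℕ) (nat_lit 503266) (@Bool.rec (fun _ => ℕ) (nat_lit 15089100) (nat_lit 14) (Nat.ble q (nat_lit 8219829446974))) (Nat.ble q (nat_lit 8221562910879)))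
noncomputable def witCs_35 (q : ℕ) : ℕ :=
  (@Bool.rec (fun _ => ℕ) (nat_lit 502956) (@Bool.rec (fun _ => ℕ) (nat_lit 14735) (nat_lit 15773071) (Nat.ble q (nat_lit 8333848198266))) (Nat.ble q (nat_lit 8334633535044)))
noncomputable def witCs_36 (q : ℕ) : ℕ :=
  (@Bool.rec (fun _ => ℕ) (@Bool.rec (fun _ => ℕ) (@Bool.rec (fun _ => ℕ) (witCs_35 q) (witCs_34 q) (Nat.ble q (nat_lit 8242933466668))) (@Bool.rec (fun _ => ℕ) (witCs_33 q) (witCs_32 q) (Nat.ble q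
  (nat_lit 8019162136014))) (Nat.ble q (nat_lit 8199347557097))) (@Bool.rec (fun _ => ℕ) (@Bool.rec (fun _ => ℕ) (witCs_31 q) (witCs_30 q) (Nat.ble q (nat_lit 7798381890436))) (@Bool.rec (fun _ => ℕ)
  (witCs_29 q) (witCs_28 q) (Nat.ble q (nat_lit 6257985827593))) (Nat.ble q (nat_lit 7476539178232))) (Nat.ble q (nat_lit 7817789115466)))
noncomputable def witCs_37 (q : ℕ) : ℕ :=
  (@Bool.rec (fun _ => ℕ) (nat_lit 504738280) (@Bool.rec (fun _ => ℕ) (nat_lit 474155) (nat_lit 12) (Nat.ble q (nat_lit 8337191215044))) (Nat.ble q (nat_lit 8379980260710)))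
noncomputable def witCs_38 (q : ℕ) : ℕ :=
  (@Bool.rec (fun _ => ℕ) (nat_lit 382056622) (@Bool.rec (fun _ => ℕ) (nat_lit 44490) (nat_lit 1421669) (Nat.ble q (nat_lit 8515940516893))) (Nat.ble q (nat_lit 8538292673848)))
noncomputable def witCs_39 (q : ℕ) : ℕ :=
  (@Bool.rec (fun _ => ℕ) (nat_lit 15773163) (@Bool.rec (fun _ => ℕ) (nat_lit 471406) (nat_lit 1419) (Nat.ble q (nat_lit 8593994496702))) (Nat.ble q (nat_lit 8662400287184)))
noncomputable def witCs_40 (q : ℕ) : ℕ :=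
  (@Bool.rec (fun _ => ℕ) (nat_lit 15081932) (@Bool.rec (fun _ => ℕ) (nat_lit 458) (nat_lit 474469) (Nat.ble q (nat_lit 8713620479001))) (Nat.ble q (nat_lit 8730052243590)))
noncomputable def witCs_41 (q : ℕ) : ℕ :=
  (@Bool.rec (fun _ => ℕ) (nat_lit 485866850) (@Bool.rec (fun _ => ℕ) (nat_lit 1414539) (nat_lit 15172975) (Nat.ble q (nat_lit 9253173324429))) (Nat.ble q (nat_lit 9519898022252)))
noncomputable def witCs_42 (q : ℕ) : ℕ :=
  (@Bool.rec (fun _ => ℕ) (nat_lit 1515) (@Bool.rec (fun _ => ℕ) (nat_lit 480655691) (nat_lit 48485) (Nat.ble q (nat_lit 9613792638179))) (Nat.ble q (nat_lit 9657751547670)))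
noncomputable def witCs_43 (q : ℕ) : ℕ :=
  (@Bool.rec (fun _ => ℕ) (nat_lit 15084718) (@Bool.rec (fun _ => ℕ) (nat_lit 15172965) (nat_lit 15183329) (Nat.ble q (nat_lit 9765253707768))) (Nat.ble q (nat_lit 9821684121808)))
noncomputable def witCs_44 (q : ℕ) : ℕ :=
  (@Bool.rec (fun _ => ℕ) (nat_lit 15020398) (@Bool.rec (fun _ => ℕ) (nat_lit 471500) (nat_lit 469384) (Nat.ble q (nat_lit 10492004797346))) (Nat.ble q (nat_lit 10494047383744)))
noncomputable def witCs_45 (q : ℕ) : ℕ :=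
  (@Bool.rec (fun _ => ℕ) (@Bool.rec (fun _ => ℕ) (@Bool.rec (fun _ => ℕ) (witCs_44 q) (witCs_43 q) (Nat.ble q (nat_lit 10260974966494))) (@Bool.rec (fun _ => ℕ) (witCs_42 q) (witCs_41 q) (Nat.ble q
  (nat_lit 9597020022783))) (Nat.ble q (nat_lit 9727480553360))) (@Bool.rec (fun _ => ℕ) (@Bool.rec (fun _ => ℕ) (witCs_40 q) (witCs_39 q) (Nat.ble q (nat_lit 8672819857283))) (@Bool.rec (fun _ => ℕ)
  (witCs_38 q) (witCs_37 q) (Nat.ble q (nat_lit 8498473926796))) (Nat.ble q (nat_lit 8585925671647))) (Nat.ble q (nat_lit 8732994620691)))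
noncomputable def witCs_46 (q : ℕ) : ℕ :=
  (@Bool.rec (fun _ => ℕ) (nat_lit 45490533) (@Bool.rec (fun _ => ℕ) (nat_lit 357) (nat_lit 11656) (Nat.ble q (nat_lit 10817822782009))) (Nat.ble q (nat_lit 10823627768483)))
noncomputable def witCs_47 (q : ℕ) : ℕ :=
  (@Bool.rec (fun _ => ℕ) (nat_lit 16104802) (@Bool.rec (fun _ => ℕ) (nat_lit 15380887722) (nat_lit 480652462) (Nat.ble q (nat_lit 11229834073515))) (Nat.ble q (nat_lit 11268257084190)))
noncomputable def witCs_48 (q : ℕ) : ℕ :=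
  (@Bool.rec (fun _ => ℕ) (nat_lit 471310) (@Bool.rec (fun _ => ℕ) (nat_lit 16094689) (nat_lit 16151618017) (Nat.ble q (nat_lit 11360725374559))) (Nat.ble q (nat_lit 11362567450531)))
noncomputable def witCs_49 (q : ℕ) : ℕ :=
  (@Bool.rec (fun _ => ℕ) (nat_lit 1450341) (@Bool.rec (fun _ => ℕ) (nat_lit 1414602) (nat_lit 15020495) (Nat.ble q (nat_lit 11958491113228))) (Nat.ble q (nat_lit 12450405537158)))
noncomputable def witCs_50 (q : ℕ) : ℕ :=
  (@Bool.rec (fun _ => ℕ) (nat_lit 503278) (@Bool.rec (fun _ => ℕ) (nat_lit 480649573) (nat_lit 44427) (Nat.ble q (nat_lit 12457874410130))) (Nat.ble q (nat_lit 12583911203600)))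
noncomputable def witCs_51 (q : ℕ) : ℕ :=
  (@Bool.rec (fun _ => ℕ) (nat_lit 16104482) (@Bool.rec (fun _ => ℕ) (nat_lit 15773153) (nat_lit 515259432) (Nat.ble q (nat_lit 12852840670562))) (Nat.ble q (nat_lit 12854944151820)))
noncomputable def witCs_52 (q : ℕ) : ℕ :=
  (@Bool.rec (fun _ => ℕ) (nat_lit 1421579) (@Bool.rec (fun _ => ℕ) (nat_lit 16094699) (nat_lit 515252705) (Nat.ble q (nat_lit 12865235859856))) (Nat.ble q (nat_lit 12907327791300)))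
noncomputable def witCs_53 (q : ℕ) : ℕ :=
  (@Bool.rec (fun _ => ℕ) (nat_lit 0) (@Bool.rec (fun _ => ℕ) (nat_lit 364) (nat_lit 15020389) (Nat.ble q (nat_lit 13280970719297))) (Nat.ble q (nat_lit 13357073055982)))
noncomputable def witCs_54 (q : ℕ) : ℕ :=
  (@Bool.rec (fun _ => ℕ) (@Bool.rec (fun _ => ℕ) (@Bool.rec (fun _ => ℕ) (witCs_53 q) (witCs_52 q) (Nat.ble q (nat_lit 13279495113692))) (@Bool.rec (fun _ => ℕ) (witCs_51 q) (witCs_50 q) (Nat.ble q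
  (nat_lit 12664482953694))) (Nat.ble q (nat_lit 12861935092952))) (@Bool.rec (fun _ => ℕ) (@Bool.rec (fun _ => ℕ) (witCs_49 q) (witCs_48 q) (Nat.ble q (nat_lit 11951957085865))) (@Bool.rec (fun _ =>
  ℕ) (witCs_47 q) (witCs_46 q) (Nat.ble q (nat_lit 11105465639004))) (Nat.ble q (nat_lit 11286734652089))) (Nat.ble q (nat_lit 12457219149979)))
noncomputable def witCs_55 (q : ℕ) : ℕ :=
  (@Bool.rec (fun _ => ℕ) (nat_lit 373093) (@Bool.rec (fun _ => ℕ) (nat_lit 504740908) (nat_lit 15020513) (Nat.ble q (nat_lit 13358834886607))) (Nat.ble q (nat_lit 13358983325271)))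
noncomputable def witCs_56 (q : ℕ) : ℕ :=
  (@Bool.rec (fun _ => ℕ) (nat_lit 14734) (@Bool.rec (fun _ => ℕ) (nat_lit 15020303) (nat_lit 471499) (Nat.ble q (nat_lit 13402951372974))) (Nat.ble q (nat_lit 13813530071002)))
noncomputable def witCs_57 (q : ℕ) : ℕ :=
  (@Bool.rec (fun _ => ℕ) (nat_lit 471503) (@Bool.rec (fun _ => ℕ) (nat_lit 392) (nat_lit 504731016) (Nat.ble q (nat_lit 14343036552764))) (Nat.ble q (nat_lit 14531717380232)))
noncomputable def witCs_58 (q : ℕ) : ℕ :=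
  (@Bool.rec (fun _ => ℕ) (nat_lit 45323) (@Bool.rec (fun _ => ℕ) (nat_lit 401765) (nat_lit 11659) (Nat.ble q (nat_lit 14673312701993))) (Nat.ble q (nat_lit 14673363980096)))
noncomputable def witCs_59 (q : ℕ) : ℕ :=
  (@Bool.rec (fun _ => ℕ) (nat_lit 480655752) (@Bool.rec (fun _ => ℕ) (nat_lit 15020299) (nat_lit 45420) (Nat.ble q (nat_lit 14835842955757))) (Nat.ble q (nat_lit 14842313966461)))
noncomputable def witCs_60 (q : ℕ) : ℕ :=
  (@Bool.rec (fun _ => ℕ) (nat_lit 46) (@Bool.rec (fun _ => ℕ) (nat_lit 15183330) (nat_lit 47) (Nat.ble q (nat_lit 14883696416708))) (Nat.ble q (nat_lit 15051474228066)))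
noncomputable def witCs_61 (q : ℕ) : ℕ :=
  (@Bool.rec (fun _ => ℕ) (nat_lit 14728) (@Bool.rec (fun _ => ℕ) (nat_lit 15020526) (nat_lit 15081953) (Nat.ble q (nat_lit 15121795541603))) (Nat.ble q (nat_lit 15124442978019)))
noncomputable def witCs_62 (q : ℕ) : ℕ :=
  (@Bool.rec (fun _ => ℕ) (nat_lit 502959) (@Bool.rec (fun _ => ℕ) (nat_lit 480652746) (nat_lit 492911) (Nat.ble q (nat_lit 15180120570218))) (Nat.ble q (nat_lit 15270743274514)))
noncomputable def witCs_63 (q : ℕ) : ℕ :=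
  (@Bool.rec (fun _ => ℕ) (@Bool.rec (fun _ => ℕ) (@Bool.rec (fun _ => ℕ) (witCs_62 q) (witCs_61 q) (Nat.ble q (nat_lit 15127153131413))) (@Bool.rec (fun _ => ℕ) (witCs_60 q) (witCs_59 q) (Nat.ble q
  (nat_lit 14882827687531))) (Nat.ble q (nat_lit 15121279967534))) (@Bool.rec (fun _ => ℕ) (@Bool.rec (fun _ => ℕ) (witCs_58 q) (witCs_57 q) (Nat.ble q (nat_lit 14532156658128))) (@Bool.rec (fun _ =>
  ℕ) (witCs_56 q) (witCs_55 q) (Nat.ble q (nat_lit 13365589151658))) (Nat.ble q (nat_lit 13814997576399))) (Nat.ble q (nat_lit 14734798522687)))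
noncomputable def witCs_64 (q : ℕ) : ℕ :=
  (@Bool.rec (fun _ => ℕ) (nat_lit 503176) (@Bool.rec (fun _ => ℕ) (nat_lit 471497) (nat_lit 45327) (Nat.ble q (nat_lit 15429051245485))) (Nat.ble q (nat_lit 15431608205677)))
noncomputable def witCs_65 (q : ℕ) : ℕ :=
  (@Bool.rec (fun _ => ℕ) (nat_lit 15023147) (@Bool.rec (fun _ => ℕ) (nat_lit 471397) (nat_lit 373003) (Nat.ble q (nat_lit 15763807939315))) (Nat.ble q (nat_lit 15766074817208)))
noncomputable def witCs_66 (q : ℕ) : ℕ :=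
  (@Bool.rec (fun _ => ℕ) (nat_lit 15020490) (@Bool.rec (fun _ => ℕ) (nat_lit 15089098) (nat_lit 1390) (Nat.ble q (nat_lit 16244490807002))) (Nat.ble q (nat_lit 16851112826613)))
noncomputable def witCs_67 (q : ℕ) : ℕ :=
  (@Bool.rec (fun _ => ℕ) (nat_lit 47496) (@Bool.rec (fun _ => ℕ) (nat_lit 14817) (nat_lit 485866853) (Nat.ble q (nat_lit 17017713131158))) (Nat.ble q (nat_lit 17117266446932)))
noncomputable def witCs_68 (q : ℕ) : ℕ :=
  (@Bool.rec (fun _ => ℕ) (nat_lit 15772844) (@Bool.rec (fun _ => ℕ) (nat_lit 44) (nat_lit 399) (Nat.ble q (nat_lit 17190712700586))) (Nat.ble q (nat_lit 17192291350407)))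
noncomputable def witCs_69 (q : ℕ) : ℕ :=
  (@Bool.rec (fun _ => ℕ) (nat_lit 15081930) (@Bool.rec (fun _ => ℕ) (nat_lit 471534) (nat_lit 503276) (Nat.ble q (nat_lit 17195985927181))) (Nat.ble q (nat_lit 17298739105859)))
noncomputable def witCs_70 (q : ℕ) : ℕ :=
  (@Bool.rec (fun _ => ℕ) (nat_lit 11) (@Bool.rec (fun _ => ℕ) (nat_lit 365960) (nat_lit 15727) (Nat.ble q (nat_lit 17341982346049))) (Nat.ble q (nat_lit 17495146119743)))
noncomputable def witCs_71 (q : ℕ) : ℕ :=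
  (@Bool.rec (fun _ => ℕ) (nat_lit 11710731) (nat_lit 15084997) (Nat.ble q (nat_lit 17885669125829)))
noncomputable def witCs_72 (q : ℕ) : ℕ :=
  (@Bool.rec (fun _ => ℕ) (@Bool.rec (fun _ => ℕ) (@Bool.rec (fun _ => ℕ) (witCs_71 q) (witCs_70 q) (Nat.ble q (nat_lit 17499648017101))) (@Bool.rec (fun _ => ℕ) (witCs_69 q) (witCs_68 q) (Nat.ble q
  (nat_lit 17193016818014))) (Nat.ble q (nat_lit 17301405217921))) (@Bool.rec (fun _ => ℕ) (@Bool.rec (fun _ => ℕ) (witCs_67 q) (witCs_66 q) (Nat.ble q (nat_lit 16855872175745))) (@Bool.rec (fun _ =>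
  ℕ) (witCs_65 q) (witCs_64 q) (Nat.ble q (nat_lit 15657717229085))) (Nat.ble q (nat_lit 16177247498090))) (Nat.ble q (nat_lit 17118633990376)))
noncomputable def witC (q : ℕ) : ℕ :=
  (@Bool.rec (fun _ => ℕ) (@Bool.rec (fun _ => ℕ) (@Bool.rec (fun _ => ℕ) (witCs_72 q) (witCs_63 q) (Nat.ble q (nat_lit 15300153675380))) (@Bool.rec (fun _ => ℕ) (witCs_54 q) (witCs_45 q) (Nat.ble q
  (nat_lit 10585223537990))) (Nat.ble q (nat_lit 13357609725882))) (@Bool.rec (fun _ => ℕ) (@Bool.rec (fun _ => ℕ) (witCs_36 q) (witCs_27 q) (Nat.ble q (nat_lit 6027354107115))) (@Bool.rec (fun _ =>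
  ℕ) (witCs_18 q) (witCs_9 q) (Nat.ble q (nat_lit 3024166654549))) (Nat.ble q (nat_lit 4699204611212))) (Nat.ble q (nat_lit 8335035869486)))
noncomputable def witYs_1 (q : ℕ) : ℕ :=
  (@Bool.rec (fun _ => ℕ) (nat_lit 755895) (nat_lit 23353609) (Nat.ble q (nat_lit 160482664294)))
noncomputable def witYs_2 (q : ℕ) : ℕ :=
  (@Bool.rec (fun _ => ℕ) (nat_lit 22) (nat_lit 23340744) (Nat.ble q (nat_lit 1321861493268)))
noncomputable def witYs_3 (q : ℕ) : ℕ :=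
  (@Bool.rec (fun _ => ℕ) (nat_lit 741) (nat_lit 23621) (Nat.ble q (nat_lit 1523688275892)))
noncomputable def witYs_4 (q : ℕ) : ℕ :=
  (@Bool.rec (fun _ => ℕ) (nat_lit 23735) (nat_lit 22806) (Nat.ble q (nat_lit 2028404916328)))
noncomputable def witYs_5 (q : ℕ) : ℕ :=
  (@Bool.rec (fun _ => ℕ) (nat_lit 24188645) (nat_lit 24188642) (Nat.ble q (nat_lit 2471637671546)))
noncomputable def witYs_6 (q : ℕ) : ℕ :=
  (@Bool.rec (fun _ => ℕ) (nat_lit 24188642) (nat_lit 738) (Nat.ble q (nat_lit 3024166654549)))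
noncomputable def witYs_7 (q : ℕ) : ℕ :=
  (@Bool.rec (fun _ => ℕ) (@Bool.rec (fun _ => ℕ) (@Bool.rec (fun _ => ℕ) (nat_lit 738) (witYs_6 q) (Nat.ble q (nat_lit 3212904183209))) (@Bool.rec (fun _ => ℕ) (witYs_5 q) (witYs_4 q) (Nat.ble q
  (nat_lit 2066626834803))) (Nat.ble q (nat_lit 2823271811444))) (@Bool.rec (fun _ => ℕ) (@Bool.rec (fun _ => ℕ) (nat_lit 0) (witYs_3 q) (Nat.ble q (nat_lit 1600191655102))) (@Bool.rec (fun _ => ℕ)
  (witYs_2 q) (witYs_1 q) (Nat.ble q (nat_lit 998771822981))) (Nat.ble q (nat_lit 1322866414318))) (Nat.ble q (nat_lit 2025614950970)))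
noncomputable def witYs_8 (q : ℕ) : ℕ :=
  (@Bool.rec (fun _ => ℕ) (nat_lit 22806) (nat_lit 0) (Nat.ble q (nat_lit 3608602135399)))
noncomputable def witYs_9 (q : ℕ) : ℕ :=
  (@Bool.rec (fun _ => ℕ) (nat_lit 23353609) (nat_lit 759525) (Nat.ble q (nat_lit 3822612569544)))
noncomputable def witYs_10 (q : ℕ) : ℕ :=
  (@Bool.rec (fun _ => ℕ) (nat_lit 746903830) (nat_lit 759522) (Nat.ble q (nat_lit 4548249012125)))
noncomputable def witYs_11 (q : ℕ) : ℕ :=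
  (@Bool.rec (fun _ => ℕ) (nat_lit 23340744) (nat_lit 22) (Nat.ble q (nat_lit 4657342272196)))
noncomputable def witYs_12 (q : ℕ) : ℕ :=
  (@Bool.rec (fun _ => ℕ) (nat_lit 729398) (nat_lit 713) (Nat.ble q (nat_lit 4699204611212)))
noncomputable def witYs_13 (q : ℕ) : ℕ :=
  (@Bool.rec (fun _ => ℕ) (@Bool.rec (fun _ => ℕ) (@Bool.rec (fun _ => ℕ) (nat_lit 23) (witYs_12 q) (Nat.ble q (nat_lit 4699360840132))) (@Bool.rec (fun _ => ℕ) (nat_lit 759525) (witYs_11 q) (Nat.ble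
  q (nat_lit 4657731446962))) (Nat.ble q (nat_lit 4687775338252))) (@Bool.rec (fun _ => ℕ) (@Bool.rec (fun _ => ℕ) (nat_lit 729801) (witYs_10 q) (Nat.ble q (nat_lit 4646674280008))) (@Bool.rec (fun _
  => ℕ) (witYs_9 q) (witYs_8 q) (Nat.ble q (nat_lit 3613604580856))) (Nat.ble q (nat_lit 3901203544779))) (Nat.ble q (nat_lit 4649684424759)))
noncomputable def witYs_14 (q : ℕ) : ℕ :=
  (@Bool.rec (fun _ => ℕ) (nat_lit 746903817) (nat_lit 22793) (Nat.ble q (nat_lit 5138577054356)))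
noncomputable def witYs_15 (q : ℕ) : ℕ :=
  (@Bool.rec (fun _ => ℕ) (nat_lit 23) (nat_lit 24188645) (Nat.ble q (nat_lit 5461579104977)))
noncomputable def witYs_16 (q : ℕ) : ℕ :=
  (@Bool.rec (fun _ => ℕ) (nat_lit 712) (nat_lit 741) (Nat.ble q (nat_lit 5560213864585)))
noncomputable def witYs_17 (q : ℕ) : ℕ :=
  (@Bool.rec (fun _ => ℕ) (nat_lit 712) (nat_lit 755895) (Nat.ble q (nat_lit 5724983815642)))
noncomputable def witYs_18 (q : ℕ) : ℕ :=
  (@Bool.rec (fun _ => ℕ) (nat_lit 759522) (nat_lit 23340745) (Nat.ble q (nat_lit 5765541893221)))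
noncomputable def witYs_19 (q : ℕ) : ℕ :=
  (@Bool.rec (fun _ => ℕ) (nat_lit 729801) (nat_lit 24304709) (Nat.ble q (nat_lit 6193579499879)))
noncomputable def witYs_20 (q : ℕ) : ℕ :=
  (@Bool.rec (fun _ => ℕ) (@Bool.rec (fun _ => ℕ) (@Bool.rec (fun _ => ℕ) (nat_lit 746903830) (witYs_19 q) (Nat.ble q (nat_lit 6251643420121))) (@Bool.rec (fun _ => ℕ) (witYs_18 q) (witYs_17 q)
  (Nat.ble q (nat_lit 5763116229824))) (Nat.ble q (nat_lit 5957404649016))) (@Bool.rec (fun _ => ℕ) (@Bool.rec (fun _ => ℕ) (nat_lit 23340745) (witYs_16 q) (Nat.ble q (nat_lit 5599613368183)))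
  (@Bool.rec (fun _ => ℕ) (witYs_15 q) (witYs_14 q) (Nat.ble q (nat_lit 5140552802850))) (Nat.ble q (nat_lit 5551355814727))) (Nat.ble q (nat_lit 5604227748525)))
noncomputable def witYs_21 (q : ℕ) : ℕ :=
  (@Bool.rec (fun _ => ℕ) (nat_lit 729801) (nat_lit 755895) (Nat.ble q (nat_lit 7476539178232)))
noncomputable def witYs_22 (q : ℕ) : ℕ :=
  (@Bool.rec (fun _ => ℕ) (nat_lit 747315510) (nat_lit 746903830) (Nat.ble q (nat_lit 7748505764323)))
noncomputable def witYs_23 (q : ℕ) : ℕ :=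
  (@Bool.rec (fun _ => ℕ) (nat_lit 24304709) (nat_lit 729800) (Nat.ble q (nat_lit 7818132982058)))
noncomputable def witYs_24 (q : ℕ) : ℕ :=
  (@Bool.rec (fun _ => ℕ) (nat_lit 747315510) (nat_lit 729800) (Nat.ble q (nat_lit 8020408533386)))
noncomputable def witYs_25 (q : ℕ) : ℕ :=
  (@Bool.rec (fun _ => ℕ) (nat_lit 729801) (nat_lit 746903830) (Nat.ble q (nat_lit 8219829446974)))
noncomputable def witYs_26 (q : ℕ) : ℕ :=
  (@Bool.rec (fun _ => ℕ) (@Bool.rec (fun _ => ℕ) (@Bool.rec (fun _ => ℕ) (nat_lit 741) (witYs_25 q) (Nat.ble q (nat_lit 8221562910879))) (@Bool.rec (fun _ => ℕ) (nat_lit 729800) (witYs_24 q)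
  (Nat.ble q (nat_lit 8198345844511))) (Nat.ble q (nat_lit 8199347557097))) (@Bool.rec (fun _ => ℕ) (@Bool.rec (fun _ => ℕ) (nat_lit 747315510) (witYs_23 q) (Nat.ble q (nat_lit 7879702746072)))
  (@Bool.rec (fun _ => ℕ) (witYs_22 q) (witYs_21 q) (Nat.ble q (nat_lit 7743344925665))) (Nat.ble q (nat_lit 7813213655693))) (Nat.ble q (nat_lit 8019162136014)))
noncomputable def witYs_27 (q : ℕ) : ℕ :=
  (@Bool.rec (fun _ => ℕ) (nat_lit 713) (nat_lit 729398) (Nat.ble q (nat_lit 8334633535044)))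
noncomputable def witYs_28 (q : ℕ) : ℕ :=
  (@Bool.rec (fun _ => ℕ) (nat_lit 24304709) (nat_lit 24188642) (Nat.ble q (nat_lit 8379980260710)))
noncomputable def witYs_29 (q : ℕ) : ℕ :=
  (@Bool.rec (fun _ => ℕ) (nat_lit 24188645) (nat_lit 759522) (Nat.ble q (nat_lit 8672819857283)))
noncomputable def witYs_30 (q : ℕ) : ℕ :=
  (@Bool.rec (fun _ => ℕ) (nat_lit 24188645) (nat_lit 729800) (Nat.ble q (nat_lit 8732994620691)))
noncomputable def witYs_31 (q : ℕ) : ℕ :=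
  (@Bool.rec (fun _ => ℕ) (nat_lit 23735) (nat_lit 23735) (Nat.ble q (nat_lit 9597020022783)))
noncomputable def witYs_32 (q : ℕ) : ℕ :=
  (@Bool.rec (fun _ => ℕ) (nat_lit 774036549) (nat_lit 759525) (Nat.ble q (nat_lit 9727480553360)))
noncomputable def witYs_33 (q : ℕ) : ℕ :=
  (@Bool.rec (fun _ => ℕ) (@Bool.rec (fun _ => ℕ) (@Bool.rec (fun _ => ℕ) (nat_lit 774036549) (witYs_32 q) (Nat.ble q (nat_lit 9765253707768))) (@Bool.rec (fun _ => ℕ) (witYs_31 q) (witYs_30 q)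
  (Nat.ble q (nat_lit 9253173324429))) (Nat.ble q (nat_lit 9613792638179))) (@Bool.rec (fun _ => ℕ) (@Bool.rec (fun _ => ℕ) (nat_lit 747315510) (witYs_29 q) (Nat.ble q (nat_lit 8713620479001)))
  (@Bool.rec (fun _ => ℕ) (witYs_28 q) (witYs_27 q) (Nat.ble q (nat_lit 8337191215044))) (Nat.ble q (nat_lit 8538292673848))) (Nat.ble q (nat_lit 8730052243590)))
noncomputable def witYs_34 (q : ℕ) : ℕ :=
  (@Bool.rec (fun _ => ℕ) (nat_lit 729398) (nat_lit 713) (Nat.ble q (nat_lit 10492004797346)))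
noncomputable def witYs_35 (q : ℕ) : ℕ :=
  (@Bool.rec (fun _ => ℕ) (nat_lit 24188642) (nat_lit 23621) (Nat.ble q (nat_lit 10823627768483)))
noncomputable def witYs_36 (q : ℕ) : ℕ :=
  (@Bool.rec (fun _ => ℕ) (nat_lit 713) (nat_lit 741) (Nat.ble q (nat_lit 11362567450531)))
noncomputable def witYs_37 (q : ℕ) : ℕ :=
  (@Bool.rec (fun _ => ℕ) (nat_lit 774036549) (nat_lit 759522) (Nat.ble q (nat_lit 12450405537158)))
noncomputable def witYs_38 (q : ℕ) : ℕ :=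
  (@Bool.rec (fun _ => ℕ) (nat_lit 759525) (nat_lit 23) (Nat.ble q (nat_lit 12861935092952)))
noncomputable def witYs_39 (q : ℕ) : ℕ :=
  (@Bool.rec (fun _ => ℕ) (@Bool.rec (fun _ => ℕ) (@Bool.rec (fun _ => ℕ) (nat_lit 0) (witYs_38 q) (Nat.ble q (nat_lit 12907327791300))) (@Bool.rec (fun _ => ℕ) (nat_lit 23621) (witYs_37 q) (Nat.ble
  q (nat_lit 12664482953694))) (Nat.ble q (nat_lit 12854944151820))) (@Bool.rec (fun _ => ℕ) (@Bool.rec (fun _ => ℕ) (nat_lit 729398) (witYs_36 q) (Nat.ble q (nat_lit 11951957085865))) (@Bool.rec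
  (fun _ => ℕ) (witYs_35 q) (witYs_34 q) (Nat.ble q (nat_lit 10494047383744))) (Nat.ble q (nat_lit 11286734652089))) (Nat.ble q (nat_lit 11958491113228)))
noncomputable def witYs_40 (q : ℕ) : ℕ :=
  (@Bool.rec (fun _ => ℕ) (nat_lit 746903817) (nat_lit 22806) (Nat.ble q (nat_lit 13358834886607)))
noncomputable def witYs_41 (q : ℕ) : ℕ :=
  (@Bool.rec (fun _ => ℕ) (nat_lit 22793) (nat_lit 22793) (Nat.ble q (nat_lit 13814997576399)))
noncomputable def witYs_42 (q : ℕ) : ℕ :=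
  (@Bool.rec (fun _ => ℕ) (nat_lit 23353609) (nat_lit 746903817) (Nat.ble q (nat_lit 14532156658128)))
noncomputable def witYs_43 (q : ℕ) : ℕ :=
  (@Bool.rec (fun _ => ℕ) (nat_lit 23340744) (nat_lit 23353609) (Nat.ble q (nat_lit 15121795541603)))
noncomputable def witYs_44 (q : ℕ) : ℕ :=
  (@Bool.rec (fun _ => ℕ) (nat_lit 23) (nat_lit 22) (Nat.ble q (nat_lit 15127153131413)))
noncomputable def witYs_45 (q : ℕ) : ℕ :=
  (@Bool.rec (fun _ => ℕ) (nat_lit 23340745) (nat_lit 738) (Nat.ble q (nat_lit 15300153675380)))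
noncomputable def witYs_46 (q : ℕ) : ℕ :=
  (@Bool.rec (fun _ => ℕ) (@Bool.rec (fun _ => ℕ) (@Bool.rec (fun _ => ℕ) (nat_lit 712) (witYs_45 q) (Nat.ble q (nat_lit 15429051245485))) (@Bool.rec (fun _ => ℕ) (witYs_44 q) (witYs_43 q) (Nat.ble q
  (nat_lit 15124442978019))) (Nat.ble q (nat_lit 15180120570218))) (@Bool.rec (fun _ => ℕ) (@Bool.rec (fun _ => ℕ) (nat_lit 755895) (witYs_42 q) (Nat.ble q (nat_lit 14882827687531))) (@Bool.rec (fun
  _ => ℕ) (witYs_41 q) (witYs_40 q) (Nat.ble q (nat_lit 13813530071002))) (Nat.ble q (nat_lit 14531717380232))) (Nat.ble q (nat_lit 15051474228066)))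
noncomputable def witYs_47 (q : ℕ) : ℕ :=
  (@Bool.rec (fun _ => ℕ) (nat_lit 774036549) (nat_lit 23735) (Nat.ble q (nat_lit 16177247498090)))
noncomputable def witYs_48 (q : ℕ) : ℕ :=
  (@Bool.rec (fun _ => ℕ) (nat_lit 22793) (nat_lit 746903817) (Nat.ble q (nat_lit 16851112826613)))
noncomputable def witYs_49 (q : ℕ) : ℕ :=
  (@Bool.rec (fun _ => ℕ) (nat_lit 0) (nat_lit 24304709) (Nat.ble q (nat_lit 17017713131158)))
noncomputable def witYs_50 (q : ℕ) : ℕ :=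
  (@Bool.rec (fun _ => ℕ) (nat_lit 22) (nat_lit 23340744) (Nat.ble q (nat_lit 17190712700586)))
noncomputable def witYs_51 (q : ℕ) : ℕ :=
  (@Bool.rec (fun _ => ℕ) (nat_lit 23621) (nat_lit 712) (Nat.ble q (nat_lit 17301405217921)))
noncomputable def witYs_52 (q : ℕ) : ℕ :=
  (@Bool.rec (fun _ => ℕ) (@Bool.rec (fun _ => ℕ) (@Bool.rec (fun _ => ℕ) (nat_lit 738) (witYs_51 q) (Nat.ble q (nat_lit 17341982346049))) (@Bool.rec (fun _ => ℕ) (nat_lit 23340745) (witYs_50 q)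
  (Nat.ble q (nat_lit 17192291350407))) (Nat.ble q (nat_lit 17298739105859))) (@Bool.rec (fun _ => ℕ) (@Bool.rec (fun _ => ℕ) (nat_lit 22806) (witYs_49 q) (Nat.ble q (nat_lit 17117266446932)))
  (@Bool.rec (fun _ => ℕ) (witYs_48 q) (witYs_47 q) (Nat.ble q (nat_lit 16244490807002))) (Nat.ble q (nat_lit 16855872175745))) (Nat.ble q (nat_lit 17118633990376)))
noncomputable def witY (q : ℕ) : ℕ :=
  (@Bool.rec (fun _ => ℕ) (@Bool.rec (fun _ => ℕ) (@Bool.rec (fun _ => ℕ) (witYs_52 q) (witYs_46 q) (Nat.ble q (nat_lit 15431608205677))) (@Bool.rec (fun _ => ℕ) (witYs_39 q) (witYs_33 q) (Nat.ble q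
  (nat_lit 9821684121808))) (Nat.ble q (nat_lit 13357609725882))) (@Bool.rec (fun _ => ℕ) (@Bool.rec (fun _ => ℕ) (witYs_26 q) (witYs_20 q) (Nat.ble q (nat_lit 6257985827593))) (@Bool.rec (fun _ =>
  ℕ) (witYs_13 q) (witYs_7 q) (Nat.ble q (nat_lit 3354132974534))) (Nat.ble q (nat_lit 4788831063312))) (Nat.ble q (nat_lit 8242933466668)))
noncomputable def witDs_1 (q : ℕ) : ℕ :=
  (@Bool.rec (fun _ => ℕ) (@Bool.rec (fun _ => ℕ) (nat_lit 200) (nat_lit 0) (Nat.ble q (nat_lit 253656935109))) (@Bool.rec (fun _ => ℕ) (nat_lit 200) (nat_lit 0) (Nat.ble q (nat_lit 156894830209)))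
  (Nat.ble q (nat_lit 178779505092)))
noncomputable def witDs_2 (q : ℕ) : ℕ :=
  (@Bool.rec (fun _ => ℕ) (nat_lit 200) (@Bool.rec (fun _ => ℕ) (nat_lit 10) (nat_lit 233) (Nat.ble q (nat_lit 507945683294))) (Nat.ble q (nat_lit 523654855651)))
noncomputable def witDs_3 (q : ℕ) : ℕ :=
  (@Bool.rec (fun _ => ℕ) (nat_lit 298) (@Bool.rec (fun _ => ℕ) (nat_lit 4) (nat_lit 200) (Nat.ble q (nat_lit 818595889751))) (Nat.ble q (nat_lit 1019020297428)))
noncomputable def witDs_4 (q : ℕ) : ℕ :=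
  (@Bool.rec (fun _ => ℕ) (nat_lit 200) (@Bool.rec (fun _ => ℕ) (nat_lit 1) (nat_lit 7) (Nat.ble q (nat_lit 1118377569030))) (Nat.ble q (nat_lit 1221495082058)))
noncomputable def witDs_5 (q : ℕ) : ℕ :=
  (@Bool.rec (fun _ => ℕ) (@Bool.rec (fun _ => ℕ) (nat_lit 4) (nat_lit 7) (Nat.ble q (nat_lit 1717754526384))) (@Bool.rec (fun _ => ℕ) (nat_lit 298) (nat_lit 234) (Nat.ble q (nat_lit 1380803952926)))
  (Nat.ble q (nat_lit 1567758587938)))
noncomputable def witDs_6 (q : ℕ) : ℕ :=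
  (@Bool.rec (fun _ => ℕ) (nat_lit 9) (@Bool.rec (fun _ => ℕ) (nat_lit 0) (nat_lit 65) (Nat.ble q (nat_lit 1853540513751))) (Nat.ble q (nat_lit 1858818074876)))
noncomputable def witDs_7 (q : ℕ) : ℕ :=
  (@Bool.rec (fun _ => ℕ) (nat_lit 298) (@Bool.rec (fun _ => ℕ) (nat_lit 7) (nat_lit 233) (Nat.ble q (nat_lit 2252963127409))) (Nat.ble q (nat_lit 2362166730480)))
noncomputable def witDs_8 (q : ℕ) : ℕ :=
  (@Bool.rec (fun _ => ℕ) (nat_lit 3137) (@Bool.rec (fun _ => ℕ) (nat_lit 233) (nat_lit 3137) (Nat.ble q (nat_lit 2377313100156))) (Nat.ble q (nat_lit 2446257088456)))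
noncomputable def witDs_9 (q : ℕ) : ℕ :=
  (@Bool.rec (fun _ => ℕ) (@Bool.rec (fun _ => ℕ) (@Bool.rec (fun _ => ℕ) (witDs_8 q) (witDs_7 q) (Nat.ble q (nat_lit 2368507957241))) (@Bool.rec (fun _ => ℕ) (witDs_6 q) (witDs_5 q) (Nat.ble q
  (nat_lit 1853437922715))) (Nat.ble q (nat_lit 2166269502724))) (@Bool.rec (fun _ => ℕ) (@Bool.rec (fun _ => ℕ) (witDs_4 q) (witDs_3 q) (Nat.ble q (nat_lit 1115970986210))) (@Bool.rec (fun _ => ℕ)
  (witDs_2 q) (witDs_1 q) (Nat.ble q (nat_lit 386896805425))) (Nat.ble q (nat_lit 573397153353))) (Nat.ble q (nat_lit 1293129932476)))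
noncomputable def witDs_10 (q : ℕ) : ℕ :=
  (@Bool.rec (fun _ => ℕ) (@Bool.rec (fun _ => ℕ) (nat_lit 1) (nat_lit 298) (Nat.ble q (nat_lit 2945314941819))) (@Bool.rec (fun _ => ℕ) (nat_lit 7) (nat_lit 9) (Nat.ble q (nat_lit 2518263650963)))
  (Nat.ble q (nat_lit 2943645119163)))
noncomputable def witDs_11 (q : ℕ) : ℕ :=
  (@Bool.rec (fun _ => ℕ) (nat_lit 3137) (@Bool.rec (fun _ => ℕ) (nat_lit 1) (nat_lit 9) (Nat.ble q (nat_lit 3024166654549))) (Nat.ble q (nat_lit 3060824525812)))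
noncomputable def witDs_12 (q : ℕ) : ℕ :=
  (@Bool.rec (fun _ => ℕ) (nat_lit 234) (@Bool.rec (fun _ => ℕ) (nat_lit 3) (nat_lit 3) (Nat.ble q (nat_lit 3190522698654))) (Nat.ble q (nat_lit 3198480074715)))
noncomputable def witDs_13 (q : ℕ) : ℕ :=
  (@Bool.rec (fun _ => ℕ) (nat_lit 7466) (@Bool.rec (fun _ => ℕ) (nat_lit 6) (nat_lit 10) (Nat.ble q (nat_lit 3451087686524))) (Nat.ble q (nat_lit 3451940500406)))
noncomputable def witDs_14 (q : ℕ) : ℕ :=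
  (@Bool.rec (fun _ => ℕ) (@Bool.rec (fun _ => ℕ) (nat_lit 4) (nat_lit 3137) (Nat.ble q (nat_lit 3620040362205))) (@Bool.rec (fun _ => ℕ) (nat_lit 233) (nat_lit 298) (Nat.ble q (nat_lit
  3532312889001))) (Nat.ble q (nat_lit 3575692465388)))
noncomputable def witDs_15 (q : ℕ) : ℕ :=
  (@Bool.rec (fun _ => ℕ) (nat_lit 234) (@Bool.rec (fun _ => ℕ) (nat_lit 97) (nat_lit 5) (Nat.ble q (nat_lit 3887460920048))) (Nat.ble q (nat_lit 3890893930440)))
noncomputable def witDs_16 (q : ℕ) : ℕ :=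
  (@Bool.rec (fun _ => ℕ) (nat_lit 3137) (@Bool.rec (fun _ => ℕ) (nat_lit 1) (nat_lit 9) (Nat.ble q (nat_lit 4125265376666))) (Nat.ble q (nat_lit 4259675064159)))
noncomputable def witDs_17 (q : ℕ) : ℕ :=
  (@Bool.rec (fun _ => ℕ) (nat_lit 200) (@Bool.rec (fun _ => ℕ) (nat_lit 1) (nat_lit 200) (Nat.ble q (nat_lit 4661830507111))) (Nat.ble q (nat_lit 4773770286013)))
noncomputable def witDs_18 (q : ℕ) : ℕ :=
  (@Bool.rec (fun _ => ℕ) (@Bool.rec (fun _ => ℕ) (@Bool.rec (fun _ => ℕ) (witDs_17 q) (witDs_16 q) (Nat.ble q (nat_lit 4261013918563))) (@Bool.rec (fun _ => ℕ) (witDs_15 q) (witDs_14 q) (Nat.ble q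
  (nat_lit 3860737077464))) (Nat.ble q (nat_lit 3959714003718))) (@Bool.rec (fun _ => ℕ) (@Bool.rec (fun _ => ℕ) (witDs_13 q) (witDs_12 q) (Nat.ble q (nat_lit 3449505470972))) (@Bool.rec (fun _ => ℕ)
  (witDs_11 q) (witDs_10 q) (Nat.ble q (nat_lit 2947665114021))) (Nat.ble q (nat_lit 3107458237484))) (Nat.ble q (nat_lit 3522513298249)))
noncomputable def witDs_19 (q : ℕ) : ℕ :=
  (@Bool.rec (fun _ => ℕ) (@Bool.rec (fun _ => ℕ) (nat_lit 0) (nat_lit 98) (Nat.ble q (nat_lit 4946874878349))) (@Bool.rec (fun _ => ℕ) (nat_lit 4) (nat_lit 197) (Nat.ble q (nat_lit 4944113320039)))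
  (Nat.ble q (nat_lit 4945784559260)))
noncomputable def witDs_20 (q : ℕ) : ℕ :=
  (@Bool.rec (fun _ => ℕ) (nat_lit 10) (@Bool.rec (fun _ => ℕ) (nat_lit 1) (nat_lit 3137) (Nat.ble q (nat_lit 5117929742864))) (Nat.ble q (nat_lit 5199512201298)))
noncomputable def witDs_21 (q : ℕ) : ℕ :=
  (@Bool.rec (fun _ => ℕ) (nat_lit 7466) (@Bool.rec (fun _ => ℕ) (nat_lit 0) (nat_lit 234) (Nat.ble q (nat_lit 5340867580695))) (Nat.ble q (nat_lit 5343812223001)))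
noncomputable def witDs_22 (q : ℕ) : ℕ :=
  (@Bool.rec (fun _ => ℕ) (nat_lit 234) (@Bool.rec (fun _ => ℕ) (nat_lit 10) (nat_lit 4) (Nat.ble q (nat_lit 5382597907219))) (Nat.ble q (nat_lit 5388101858885)))
noncomputable def witDs_23 (q : ℕ) : ℕ :=
  (@Bool.rec (fun _ => ℕ) (@Bool.rec (fun _ => ℕ) (nat_lit 4) (nat_lit 2) (Nat.ble q (nat_lit 5628719602316))) (@Bool.rec (fun _ => ℕ) (nat_lit 200) (nat_lit 3137) (Nat.ble q (nat_lit
  5426556696792))) (Nat.ble q (nat_lit 5517794961428)))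
noncomputable def witDs_24 (q : ℕ) : ℕ :=
  (@Bool.rec (fun _ => ℕ) (nat_lit 10) (@Bool.rec (fun _ => ℕ) (nat_lit 8) (nat_lit 65) (Nat.ble q (nat_lit 5682938251435))) (Nat.ble q (nat_lit 5766730731918)))
noncomputable def witDs_25 (q : ℕ) : ℕ :=
  (@Bool.rec (fun _ => ℕ) (nat_lit 4) (@Bool.rec (fun _ => ℕ) (nat_lit 1) (nat_lit 6) (Nat.ble q (nat_lit 6257985827593))) (Nat.ble q (nat_lit 6286454970734)))
noncomputable def witDs_26 (q : ℕ) : ℕ :=
  (@Bool.rec (fun _ => ℕ) (nat_lit 5) (@Bool.rec (fun _ => ℕ) (nat_lit 97) (nat_lit 10) (Nat.ble q (nat_lit 6678748368642))) (Nat.ble q (nat_lit 6743250893568)))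
noncomputable def witDs_27 (q : ℕ) : ℕ :=
  (@Bool.rec (fun _ => ℕ) (@Bool.rec (fun _ => ℕ) (@Bool.rec (fun _ => ℕ) (witDs_26 q) (witDs_25 q) (Nat.ble q (nat_lit 6503091078206))) (@Bool.rec (fun _ => ℕ) (witDs_24 q) (witDs_23 q) (Nat.ble q
  (nat_lit 5682480312350))) (Nat.ble q (nat_lit 5996869605673))) (@Bool.rec (fun _ => ℕ) (@Bool.rec (fun _ => ℕ) (witDs_22 q) (witDs_21 q) (Nat.ble q (nat_lit 5346823976522))) (@Bool.rec (fun _ => ℕ)
  (witDs_20 q) (witDs_19 q) (Nat.ble q (nat_lit 4972930959319))) (Nat.ble q (nat_lit 5294249905701))) (Nat.ble q (nat_lit 5389950445513)))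
noncomputable def witDs_28 (q : ℕ) : ℕ :=
  (@Bool.rec (fun _ => ℕ) (@Bool.rec (fun _ => ℕ) (nat_lit 3137) (nat_lit 65) (Nat.ble q (nat_lit 7088000527992))) (@Bool.rec (fun _ => ℕ) (nat_lit 1) (nat_lit 6405) (Nat.ble q (nat_lit
  6868905001685))) (Nat.ble q (nat_lit 7020527679438)))
noncomputable def witDs_29 (q : ℕ) : ℕ :=
  (@Bool.rec (fun _ => ℕ) (nat_lit 3) (@Bool.rec (fun _ => ℕ) (nat_lit 1) (nat_lit 4) (Nat.ble q (nat_lit 7248934185284))) (Nat.ble q (nat_lit 7599909245708)))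
noncomputable def witDs_30 (q : ℕ) : ℕ :=
  (@Bool.rec (fun _ => ℕ) (nat_lit 7) (@Bool.rec (fun _ => ℕ) (nat_lit 10) (nat_lit 65) (Nat.ble q (nat_lit 7681106553834))) (Nat.ble q (nat_lit 7752977940442)))
noncomputable def witDs_31 (q : ℕ) : ℕ :=
  (@Bool.rec (fun _ => ℕ) (nat_lit 9) (@Bool.rec (fun _ => ℕ) (nat_lit 5) (nat_lit 3) (Nat.ble q (nat_lit 7887453685777))) (Nat.ble q (nat_lit 7933411183279)))
noncomputable def witDs_32 (q : ℕ) : ℕ :=
  (@Bool.rec (fun _ => ℕ) (nat_lit 200) (@Bool.rec (fun _ => ℕ) (nat_lit 5) (nat_lit 5) (Nat.ble q (nat_lit 7971629825143))) (Nat.ble q (nat_lit 8020408533386)))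
noncomputable def witDs_33 (q : ℕ) : ℕ :=
  (@Bool.rec (fun _ => ℕ) (nat_lit 3137) (@Bool.rec (fun _ => ℕ) (nat_lit 5) (nat_lit 298) (Nat.ble q (nat_lit 8165502698683))) (Nat.ble q (nat_lit 8213425054565)))
noncomputable def witDs_34 (q : ℕ) : ℕ :=
  (@Bool.rec (fun _ => ℕ) (nat_lit 2) (@Bool.rec (fun _ => ℕ) (nat_lit 3) (nat_lit 3) (Nat.ble q (nat_lit 8730052243590))) (Nat.ble q (nat_lit 8845240447336)))
noncomputable def witDs_35 (q : ℕ) : ℕ :=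
  (@Bool.rec (fun _ => ℕ) (nat_lit 2) (@Bool.rec (fun _ => ℕ) (nat_lit 3137) (nat_lit 10) (Nat.ble q (nat_lit 9058910093375))) (Nat.ble q (nat_lit 9332037433034)))
noncomputable def witDs_36 (q : ℕ) : ℕ :=
  (@Bool.rec (fun _ => ℕ) (@Bool.rec (fun _ => ℕ) (@Bool.rec (fun _ => ℕ) (witDs_35 q) (witDs_34 q) (Nat.ble q (nat_lit 8859790316506))) (@Bool.rec (fun _ => ℕ) (witDs_33 q) (witDs_32 q) (Nat.ble q
  (nat_lit 8087831992175))) (Nat.ble q (nat_lit 8236405981569))) (@Bool.rec (fun _ => ℕ) (@Bool.rec (fun _ => ℕ) (witDs_31 q) (witDs_30 q) (Nat.ble q (nat_lit 7813213655693))) (@Bool.rec (fun _ => ℕ)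
  (witDs_29 q) (witDs_28 q) (Nat.ble q (nat_lit 7098842735340))) (Nat.ble q (nat_lit 7664685910397))) (Nat.ble q (nat_lit 7960826451302)))
noncomputable def witDs_37 (q : ℕ) : ℕ :=
  (@Bool.rec (fun _ => ℕ) (@Bool.rec (fun _ => ℕ) (nat_lit 197) (nat_lit 233) (Nat.ble q (nat_lit 9718622549418))) (@Bool.rec (fun _ => ℕ) (nat_lit 9) (nat_lit 0) (Nat.ble q (nat_lit 9458651887891)))
  (Nat.ble q (nat_lit 9715320562456)))
noncomputable def witDs_38 (q : ℕ) : ℕ :=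
  (@Bool.rec (fun _ => ℕ) (nat_lit 4) (@Bool.rec (fun _ => ℕ) (nat_lit 97) (nat_lit 98) (Nat.ble q (nat_lit 9975444333993))) (Nat.ble q (nat_lit 9975710100317)))
noncomputable def witDs_39 (q : ℕ) : ℕ :=
  (@Bool.rec (fun _ => ℕ) (nat_lit 261) (@Bool.rec (fun _ => ℕ) (nat_lit 6) (nat_lit 298) (Nat.ble q (nat_lit 9993711816942))) (Nat.ble q (nat_lit 10342027059855)))
noncomputable def witDs_40 (q : ℕ) : ℕ :=
  (@Bool.rec (fun _ => ℕ) (nat_lit 2) (@Bool.rec (fun _ => ℕ) (nat_lit 2) (nat_lit 5) (Nat.ble q (nat_lit 10401482302965))) (Nat.ble q (nat_lit 10492004797346)))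
noncomputable def witDs_41 (q : ℕ) : ℕ :=
  (@Bool.rec (fun _ => ℕ) (@Bool.rec (fun _ => ℕ) (nat_lit 2) (nat_lit 2) (Nat.ble q (nat_lit 10961868318307))) (@Bool.rec (fun _ => ℕ) (nat_lit 5) (nat_lit 10) (Nat.ble q (nat_lit 10705319977483)))
  (Nat.ble q (nat_lit 10855491017634)))
noncomputable def witDs_42 (q : ℕ) : ℕ :=
  (@Bool.rec (fun _ => ℕ) (nat_lit 233) (@Bool.rec (fun _ => ℕ) (nat_lit 9) (nat_lit 6405) (Nat.ble q (nat_lit 11251583365552))) (Nat.ble q (nat_lit 11317732533505)))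
noncomputable def witDs_43 (q : ℕ) : ℕ :=
  (@Bool.rec (fun _ => ℕ) (nat_lit 200) (@Bool.rec (fun _ => ℕ) (nat_lit 0) (nat_lit 7466) (Nat.ble q (nat_lit 11446225869667))) (Nat.ble q (nat_lit 11448011081678)))
noncomputable def witDs_44 (q : ℕ) : ℕ :=
  (@Bool.rec (fun _ => ℕ) (nat_lit 4) (@Bool.rec (fun _ => ℕ) (nat_lit 4) (nat_lit 98) (Nat.ble q (nat_lit 11628461268731))) (Nat.ble q (nat_lit 11632691136018)))
noncomputable def witDs_45 (q : ℕ) : ℕ :=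
  (@Bool.rec (fun _ => ℕ) (@Bool.rec (fun _ => ℕ) (@Bool.rec (fun _ => ℕ) (witDs_44 q) (witDs_43 q) (Nat.ble q (nat_lit 11530020758071))) (@Bool.rec (fun _ => ℕ) (witDs_42 q) (witDs_41 q) (Nat.ble q
  (nat_lit 11186997724353))) (Nat.ble q (nat_lit 11319844464768))) (@Bool.rec (fun _ => ℕ) (@Bool.rec (fun _ => ℕ) (witDs_40 q) (witDs_39 q) (Nat.ble q (nat_lit 10355812784467))) (@Bool.rec (fun _ =>
  ℕ) (witDs_38 q) (witDs_37 q) (Nat.ble q (nat_lit 9973741738408))) (Nat.ble q (nat_lit 9975819615391))) (Nat.ble q (nat_lit 10611502779158)))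
noncomputable def witDs_46 (q : ℕ) : ℕ :=
  (@Bool.rec (fun _ => ℕ) (@Bool.rec (fun _ => ℕ) (nat_lit 4) (nat_lit 8) (Nat.ble q (nat_lit 12257803586067))) (@Bool.rec (fun _ => ℕ) (nat_lit 233) (nat_lit 65) (Nat.ble q (nat_lit
  11746945977236))) (Nat.ble q (nat_lit 12146673313380)))
noncomputable def witDs_47 (q : ℕ) : ℕ :=
  (@Bool.rec (fun _ => ℕ) (nat_lit 6) (@Bool.rec (fun _ => ℕ) (nat_lit 7466) (nat_lit 1) (Nat.ble q (nat_lit 12583911203600))) (Nat.ble q (nat_lit 12680863521760)))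
noncomputable def witDs_48 (q : ℕ) : ℕ :=
  (@Bool.rec (fun _ => ℕ) (nat_lit 7) (@Bool.rec (fun _ => ℕ) (nat_lit 3) (nat_lit 234) (Nat.ble q (nat_lit 12701220825392))) (Nat.ble q (nat_lit 12970668844528)))
noncomputable def witDs_49 (q : ℕ) : ℕ :=
  (@Bool.rec (fun _ => ℕ) (nat_lit 5) (@Bool.rec (fun _ => ℕ) (nat_lit 8) (nat_lit 97) (Nat.ble q (nat_lit 13228162497482))) (Nat.ble q (nat_lit 13231387890580)))
noncomputable def witDs_50 (q : ℕ) : ℕ :=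
  (@Bool.rec (fun _ => ℕ) (nat_lit 234) (@Bool.rec (fun _ => ℕ) (nat_lit 4) (nat_lit 200) (Nat.ble q (nat_lit 13282892096102))) (Nat.ble q (nat_lit 13357609725882)))
noncomputable def witDs_51 (q : ℕ) : ℕ :=
  (@Bool.rec (fun _ => ℕ) (nat_lit 234) (@Bool.rec (fun _ => ℕ) (nat_lit 5) (nat_lit 200) (Nat.ble q (nat_lit 13400633242751))) (Nat.ble q (nat_lit 13409908234040)))
noncomputable def witDs_52 (q : ℕ) : ℕ :=
  (@Bool.rec (fun _ => ℕ) (nat_lit 6) (@Bool.rec (fun _ => ℕ) (nat_lit 7466) (nat_lit 7) (Nat.ble q (nat_lit 13682895865512))) (Nat.ble q (nat_lit 13852838048160)))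
noncomputable def witDs_53 (q : ℕ) : ℕ :=
  (@Bool.rec (fun _ => ℕ) (nat_lit 2) (@Bool.rec (fun _ => ℕ) (nat_lit 233) (nat_lit 9) (Nat.ble q (nat_lit 13890842853085))) (Nat.ble q (nat_lit 13909839283587)))
noncomputable def witDs_54 (q : ℕ) : ℕ :=
  (@Bool.rec (fun _ => ℕ) (@Bool.rec (fun _ => ℕ) (@Bool.rec (fun _ => ℕ) (witDs_53 q) (witDs_52 q) (Nat.ble q (nat_lit 13879722109445))) (@Bool.rec (fun _ => ℕ) (witDs_51 q) (witDs_50 q) (Nat.ble q
  (nat_lit 13366526332062))) (Nat.ble q (nat_lit 13565787707581))) (@Bool.rec (fun _ => ℕ) (@Bool.rec (fun _ => ℕ) (witDs_49 q) (witDs_48 q) (Nat.ble q (nat_lit 13149769179981))) (@Bool.rec (fun _ =>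
  ℕ) (witDs_47 q) (witDs_46 q) (Nat.ble q (nat_lit 12377264648885))) (Nat.ble q (nat_lit 12689358227861))) (Nat.ble q (nat_lit 13231470477760)))
noncomputable def witDs_55 (q : ℕ) : ℕ :=
  (@Bool.rec (fun _ => ℕ) (@Bool.rec (fun _ => ℕ) (nat_lit 5) (nat_lit 9) (Nat.ble q (nat_lit 14371023085234))) (@Bool.rec (fun _ => ℕ) (nat_lit 10) (nat_lit 1) (Nat.ble q (nat_lit 14079277694115)))
  (Nat.ble q (nat_lit 14343036552764)))
noncomputable def witDs_56 (q : ℕ) : ℕ :=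
  (@Bool.rec (fun _ => ℕ) (nat_lit 10) (@Bool.rec (fun _ => ℕ) (nat_lit 4) (nat_lit 4) (Nat.ble q (nat_lit 14577772147753))) (Nat.ble q (nat_lit 14839727668562)))
noncomputable def witDs_57 (q : ℕ) : ℕ :=
  (@Bool.rec (fun _ => ℕ) (nat_lit 2) (@Bool.rec (fun _ => ℕ) (nat_lit 7) (nat_lit 298) (Nat.ble q (nat_lit 15019633533289))) (Nat.ble q (nat_lit 15025361638505)))
noncomputable def witDs_58 (q : ℕ) : ℕ :=
  (@Bool.rec (fun _ => ℕ) (nat_lit 298) (@Bool.rec (fun _ => ℕ) (nat_lit 65) (nat_lit 4) (Nat.ble q (nat_lit 15159390054231))) (Nat.ble q (nat_lit 15164996251326)))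
noncomputable def witDs_59 (q : ℕ) : ℕ :=
  (@Bool.rec (fun _ => ℕ) (@Bool.rec (fun _ => ℕ) (nat_lit 6405) (nat_lit 233) (Nat.ble q (nat_lit 15440282344877))) (@Bool.rec (fun _ => ℕ) (nat_lit 6) (nat_lit 2) (Nat.ble q (nat_lit
  15389183612705))) (Nat.ble q (nat_lit 15396894566804)))
noncomputable def witDs_60 (q : ℕ) : ℕ :=
  (@Bool.rec (fun _ => ℕ) (nat_lit 3) (@Bool.rec (fun _ => ℕ) (nat_lit 298) (nat_lit 200) (Nat.ble q (nat_lit 15723916438200))) (Nat.ble q (nat_lit 15980866457354)))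
noncomputable def witDs_61 (q : ℕ) : ℕ :=
  (@Bool.rec (fun _ => ℕ) (nat_lit 98) (@Bool.rec (fun _ => ℕ) (nat_lit 97) (nat_lit 3) (Nat.ble q (nat_lit 16054825677800))) (Nat.ble q (nat_lit 16065542000479)))
noncomputable def witDs_62 (q : ℕ) : ℕ :=
  (@Bool.rec (fun _ => ℕ) (nat_lit 3137) (@Bool.rec (fun _ => ℕ) (nat_lit 4) (nat_lit 197) (Nat.ble q (nat_lit 16071885355470))) (Nat.ble q (nat_lit 16072986775814)))
noncomputable def witDs_63 (q : ℕ) : ℕ :=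
  (@Bool.rec (fun _ => ℕ) (@Bool.rec (fun _ => ℕ) (@Bool.rec (fun _ => ℕ) (witDs_62 q) (witDs_61 q) (Nat.ble q (nat_lit 16065809563101))) (@Bool.rec (fun _ => ℕ) (witDs_60 q) (witDs_59 q) (Nat.ble q
  (nat_lit 15635641095861))) (Nat.ble q (nat_lit 16019707513813))) (@Bool.rec (fun _ => ℕ) (@Bool.rec (fun _ => ℕ) (witDs_58 q) (witDs_57 q) (Nat.ble q (nat_lit 15124898961264))) (@Bool.rec (fun _ =>
  ℕ) (witDs_56 q) (witDs_55 q) (Nat.ble q (nat_lit 14437582243387))) (Nat.ble q (nat_lit 14989021113712))) (Nat.ble q (nat_lit 15207475070169)))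
noncomputable def witDs_64 (q : ℕ) : ℕ :=
  (@Bool.rec (fun _ => ℕ) (@Bool.rec (fun _ => ℕ) (nat_lit 65) (nat_lit 98) (Nat.ble q (nat_lit 16309241306504))) (@Bool.rec (fun _ => ℕ) (nat_lit 0) (nat_lit 7) (Nat.ble q (nat_lit 16250777215357)))
  (Nat.ble q (nat_lit 16281598158630)))
noncomputable def witDs_65 (q : ℕ) : ℕ :=
  (@Bool.rec (fun _ => ℕ) (nat_lit 1) (@Bool.rec (fun _ => ℕ) (nat_lit 4) (nat_lit 197) (Nat.ble q (nat_lit 16314161440961))) (Nat.ble q (nat_lit 16315609119633)))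
noncomputable def witDs_66 (q : ℕ) : ℕ :=
  (@Bool.rec (fun _ => ℕ) (nat_lit 10) (@Bool.rec (fun _ => ℕ) (nat_lit 261) (nat_lit 5) (Nat.ble q (nat_lit 16359192118726))) (Nat.ble q (nat_lit 16385795632972)))
noncomputable def witDs_67 (q : ℕ) : ℕ :=
  (@Bool.rec (fun _ => ℕ) (nat_lit 197) (@Bool.rec (fun _ => ℕ) (nat_lit 4) (nat_lit 8) (Nat.ble q (nat_lit 16491419185796))) (Nat.ble q (nat_lit 16557169944029)))
noncomputable def witDs_68 (q : ℕ) : ℕ :=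
  (@Bool.rec (fun _ => ℕ) (nat_lit 98) (@Bool.rec (fun _ => ℕ) (nat_lit 98) (nat_lit 65) (Nat.ble q (nat_lit 16559653562426))) (Nat.ble q (nat_lit 16559787179536)))
noncomputable def witDs_69 (q : ℕ) : ℕ :=
  (@Bool.rec (fun _ => ℕ) (nat_lit 298) (@Bool.rec (fun _ => ℕ) (nat_lit 4) (nat_lit 197) (Nat.ble q (nat_lit 16716590046513))) (Nat.ble q (nat_lit 16717469733255)))
noncomputable def witDs_70 (q : ℕ) : ℕ :=
  (@Bool.rec (fun _ => ℕ) (nat_lit 200) (@Bool.rec (fun _ => ℕ) (nat_lit 200) (nat_lit 6) (Nat.ble q (nat_lit 17082215712602))) (Nat.ble q (nat_lit 17225859245246)))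
noncomputable def witDs_71 (q : ℕ) : ℕ :=
  (@Bool.rec (fun _ => ℕ) (nat_lit 98) (@Bool.rec (fun _ => ℕ) (nat_lit 4) (nat_lit 261) (Nat.ble q (nat_lit 17690353870728))) (Nat.ble q (nat_lit 17877443266332)))
noncomputable def witDs_72 (q : ℕ) : ℕ :=
  (@Bool.rec (fun _ => ℕ) (@Bool.rec (fun _ => ℕ) (@Bool.rec (fun _ => ℕ) (witDs_71 q) (witDs_70 q) (Nat.ble q (nat_lit 17671616403301))) (@Bool.rec (fun _ => ℕ) (witDs_69 q) (witDs_68 q) (Nat.ble q
  (nat_lit 16709332697060))) (Nat.ble q (nat_lit 16786330572962))) (@Bool.rec (fun _ => ℕ) (@Bool.rec (fun _ => ℕ) (witDs_67 q) (witDs_66 q) (Nat.ble q (nat_lit 16411489420027))) (@Bool.rec (fun _ =>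
  ℕ) (witDs_65 q) (witDs_64 q) (Nat.ble q (nat_lit 16309440595751))) (Nat.ble q (nat_lit 16334788135275))) (Nat.ble q (nat_lit 16558899890524)))
noncomputable def witD (q : ℕ) : ℕ :=
  (@Bool.rec (fun _ => ℕ) (@Bool.rec (fun _ => ℕ) (@Bool.rec (fun _ => ℕ) (witDs_72 q) (witDs_63 q) (Nat.ble q (nat_lit 16088009174765))) (@Bool.rec (fun _ => ℕ) (witDs_54 q) (witDs_45 q) (Nat.ble q
  (nat_lit 11742342078548))) (Nat.ble q (nat_lit 13998367162686))) (@Bool.rec (fun _ => ℕ) (@Bool.rec (fun _ => ℕ) (witDs_36 q) (witDs_27 q) (Nat.ble q (nat_lit 6818208504561))) (@Bool.rec (fun _ =>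
  ℕ) (witDs_18 q) (witDs_9 q) (Nat.ble q (nat_lit 2481234460825))) (Nat.ble q (nat_lit 4805715018535))) (Nat.ble q (nat_lit 9409825106933)))
def cs : List (List ℕ) := [[], [10], [11], [10, 4], [10, 11], [11, 10], [11, 7], [10, 4, 11], [10, 11, 10], [10, 11, 7], [11, 10, 4], [11, 10, 7], [11, 10, 11], [10, 4, 11, 10], [10, 4, 11, 7], [10,
  11, 10, 4], [10, 11, 10, 7], [11, 10, 7, 4], [10, 4, 11, 10, 7], [10, 11, 10, 7, 4], [10, 4, 11, 10, 7, 4]]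
def wK : List (List ℕ) := [[0], [1], [2], [3], [25, 5, 26, 5, 25, 5, 26], [5], [6], [5, 26, 5, 25, 5, 26, 5, 25], [8], [9], [5, 26, 5, 25, 5], [25, 5, 25, 5, 25, 5, 26, 5, 26, 5, 26], [0, 9], [], [],
  [0, 8], [1, 6], [2, 8], [1, 9], [], [], [], [], [5, 25, 5, 25, 5, 26, 5, 25, 5, 25, 5, 26], [5, 25, 5, 26, 5], [25], [26], [2, 6], [2, 3, 5]]

end Cfsg.Agent.HeR
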