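import Cfsg.Agent.S5416
import Cfsg.Agent.TT.LargeT

/-! # The centralizer of an element of order seven in a group of Monster type -/

set_option autoImplicit false

namespace Cfsg.Agent.HeR

open Cfsg.Spor Cfsg.Agent.GT Cfsg.Agent.TT Subgroup Cfsg.Agent.M24 MulAction Cfsg.Agent.Leech

variable {G : Type*} [Group G] [Finite G] {Q : Subgroup G} {z : G} {Ψ : Lv → G → Prop}
  {π : C1[z] →* Co1} {b q r s : G} {y : Co0} {v : Lv}

theorem odd_setting2 {H L : Type*} [Group H] [Finite H] [Group L] (M : MT Q z Ψ π)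
    (a : Ψ (e8 none) s) (hbs : b ∈ C1[s]) (l : Lf π b y) (hb : Odd (orderOf b))
    (hy : Odd (orderOf y)) (θ₀ : C1[y] →* L) (hθ₀ : Function.Surjective θ₀)
    (hk₀ : ∀ g, θ₀ g = 1 ↔ pj g ∈ zpowers (pj y)) (hodd : Odd (orbit C1[y] x8).ncard)
    (hf₀ : ∀ g : C1[y], (∀ x ∈ orbit C1[y] x8, g • x = x) → θ₀ g = 1) {w : ℕ}
    (hF : {x : Lt | y • x = x}.ncard = 2 ^ (2 * w)) (ρ : C1[b] →* H) (hρ : Function.Surjective ρ)
    (hk : kr ρ = zpowers b) :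
    ∃ (zb : z ∈ C1[b]) (_ : ((im ρ (Q ⊓ C1[b])).subgroupOf C1[ρ ⟨z, zb⟩]).Normal),
      IsExtraspecialCentralizerSetting (ρ ⟨z, zb⟩) ((im ρ (Q ⊓ C1[b])).subgroupOf C1[ρ ⟨z, zb⟩]) w ∧
      Nonempty (C1[ρ ⟨z, zb⟩] ⧸ (im ρ (Q ⊓ C1[b])).subgroupOf C1[ρ ⟨z, zb⟩] ≃* L) ∧
      ∀ m m' : C1[b], m.1 ^ 2 ^ 2 = 1 → m'.1 ^ 2 ^ 2 = 1 → ρ m = ρ m' → m = m' := by
  have : Finite L := Finite.of_surjective _ hθ₀
  have zb := mem_cent1_comm.1 l.1
  have hs := (M.conj_z_iff a).2 (Eqv.refl _)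
  have sR : s ∈ Q ⊓ C1[b] := ⟨M.memQ a, mem_cent1_comm.1 hbs⟩
  have s1 : s ≠ 1 := fun h => M.ne (isConj_one_left.1 (h ▸ hs.1))
  have hQB : ∀ x ∈ Q, x ∈ kr ρ → x = 1 := fun x hx h => PG.eq_one_of_mem_of_coprime M.isPGroup hx
    (Nat.coprime_two_right.2 (hb.of_dvd_nat (orderOf_dvd_of_mem_zpowers (hk ▸ h))))
  have E := es_cent_odd M.toES hb (M.nQ l.1) sR s1 hs.2
  have ρinj : ∀ m m' : C1[b], m.1 ∈ Q → m'.1 ∈ Q → ρ m = ρ m' → m = m' := fun m m' h h' e => by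
    rw [← mul_inv_eq_one, ← map_inv, ← map_mul] at e
    exact mul_inv_eq_one.1 (Subtype.ext (hQB _ (mul_mem h (inv_mem h')) ((mem_kr' _).2 e)))
  -- elements of order at most four are determined by their images
  have ρ4 : ∀ m m' : C1[b], m.1 ^ 2 ^ 2 = 1 → m'.1 ^ 2 ^ 2 = 1 → ρ m = ρ m' → m = m' :=
    fun m m' h h' e => by
    rw [← inv_mul_eq_one, ← map_inv, ← map_mul, ← mem_kr' (m⁻¹ * m').2, hk] at e
    have h1 : Commute m.1 (m⁻¹ * m').1 := by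
      obtain ⟨k, hk⟩ := e
      rw [← hk]; exact Commute.zpow_right (mem_cent1.1 m.2) k
    have h2 : (m⁻¹ * m').1 ^ 2 ^ 2 = 1 := by
      have := h1.mul_pow (2 ^ 2)
      rwa [Subgroup.coe_mul, Subgroup.coe_inv, mul_inv_cancel_left, h, h', one_mul, eq_comm] at this
    refine inv_mul_eq_one.1 (Subtype.ext (orderOf_eq_one_iff.1 (Nat.eq_one_of_dvd_coprimes
      (Nat.coprime_two_right.2 hb |>.pow_right 2) (orderOf_dvd_of_mem_zpowers e)
      (orderOf_dvd_of_pow_eq_one h2))))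
  have hD := M.im_cent_odd l hb hy le_rfl (le_normalizer l.1) (X := ⊤)
    (by rw [im_dom_of_surj M.πs, map_top_of_surjective _ pj_surj]) trivial
  rw [top_inf_eq] at hD
  let φ : C1[y] →* (C1[y]).map pj := pj.subgroupMap _
  have hle : φ.ker ≤ θ₀.ker := fun g hg => (hk₀ g).2 (by
    rw [show pj g = 1 from congrArg Subtype.val hg]; exact one_mem _)
  let θ₁ := φ.liftOfSurjective (pj.subgroupMap_surjective _) ⟨θ₀, hle⟩
  let θ : ↥(C1[z] ⊓ C1[b]) →* L := θ₁.comp ((π.comp (inclusion inf_le_left)).codRestrict _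
    fun d => hD ▸ mem_im_of_mem _ d.2)
  have eθ : ∀ (d : ↥(C1[z] ⊓ C1[b])) (g : C1[y]), Lf π d g → θ d = θ₀ g := fun d g h =>
    (congrArg θ₁ (Subtype.ext h.2)).trans (φ.liftOfRightInverse_comp_apply _ _ _ g)
  have ex1 : ∀ d : ↥(C1[z] ⊓ C1[b]), ∃ g : C1[y], Lf π d g := fun d => by
    obtain ⟨g, hg, e⟩ := hD.le (mem_im_of_mem d.2.1 d.2)
    exact ⟨⟨g, hg⟩, d.2.1, e.symm⟩
  have ex2 : ∀ g : C1[y], ∃ d : ↥(C1[z] ⊓ C1[b]), Lf π d g := fun g => by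
    obtain ⟨d, h1, h2, e⟩ := mem_im.1 (hD.ge ⟨g, g.2, rfl⟩)
    exact ⟨⟨d, h2⟩, h1, e⟩
  have x8y : y • x8 = x8 := (M.fix_iff a l hb).1 sR.2
  have kfix : ∀ g : C1[y], θ₀ g = 1 → g • x8 = x8 := fun g hg => by
    obtain ⟨k, hk⟩ := (hk₀ g).1 hg
    rw [Subgroup.smul_def, ← act_of_pj ((map_zpow pj y k).trans hk)]
    exact zpow_mem (show y ∈ stabilizer Co0 x8 from x8y) k
  have cR : Nat.card (im ρ (Q ⊓ C1[b])) = 2 ^ (2 * w + 1) := by
    rw [card_im_of_inf_eq_bot inf_le_right (eq_bot_iff.2 fun x hx => hQB x hx.1.1 hx.2), pow_succ',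
      ← hF, ← M.ncard_fix l hb (S := {x : Lt | y • x = x}) fun _ h => h, ← Nat.card_coe_set_eq]
    refine congrArg (fun S : Set G => Nat.card S) (Set.ext fun q => ⟨fun h => ⟨h.2, ?_⟩,
      fun ⟨h, v, hv, _⟩ => ⟨M.memQ hv, h⟩⟩)
    obtain ⟨v, hv⟩ := M.surj q h.1
    exact ⟨v, hv, (M.fix_iff hv l hb).1 h.2⟩
  obtain ⟨hn, hS, -, e, -⟩ := setting_quot (D := C1[z] ⊓ C1[b]) (R := Q ⊓ C1[b]) ρ hρ zb
    (inf_le_inf_right _ M.le_cent1) inf_le_right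
    (fun m hm => ⟨mem_cent1.2 (mul_inv_eq_iff_eq_mul.1 (congrArg Subtype.val
      (ρ4 (m * ⟨z, zb⟩ * m⁻¹) ⟨z, zb⟩ (by simpa using M.pow_four M.mem) (M.pow_four M.mem)
        (by rw [map_mul, map_mul, map_inv, hm.eq, mul_inv_cancel_right])))), m.2⟩)
    inf_le_left (es_im M.toES inf_le_left E.mem inf_le_right ρ (fun h => M.ne (hQB z M.mem h))
      (fun x hx h => (E.cent x hx h).imp (fun e => by rw [e]; exact one_mem _) fun e => by
        rw [e, M.zz]; exact one_mem _) E.nonab) cR θ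
    (fun t => by
      obtain ⟨g, rfl⟩ := hθ₀ t
      obtain ⟨d, hd⟩ := ex2 g
      exact ⟨d, eθ d g hd⟩)
    (by
      refine le_antisymm (fun d hd => ?_) (sup_le (fun r hr => mem_kr.2 ⟨⟨M.le_cent1 hr.1, hr.2⟩,
        (eθ _ 1 (M.lf_one.2 hr.1)).trans (map_one _)⟩) (hk ▸ zpowers_le.2 (mem_kr.2
          ⟨⟨l.1, self_mem_cent1 b⟩, (eθ _ ⟨y, self_mem_cent1 y⟩ l).trans
            ((hk₀ _).2 (mem_zpowers _))⟩)))
      obtain ⟨hd, h1⟩ := mem_kr.1 hd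
      obtain ⟨g, hg⟩ := ex1 ⟨d, hd⟩
      obtain ⟨k, h2⟩ := PG.exists_nat_pow_of_mem_zpowers ((hk₀ g).1 ((eθ _ _ hg).symm.trans h1))
      rw [← inv_mul_cancel_right d (b ^ k), hk]
      refine mul_mem_sup ⟨M.lf_one.1 ((hg.mul (l.pow k).inv).congr ?_), C1[b].mul_mem hd.2
        (C1[b].inv_mem (pow_mem (self_mem_cent1 b) k))⟩ (pow_mem (mem_zpowers b) k)
      rw [map_mul, map_inv, map_pow, h2, mul_inv_cancel, map_one])
    (fun N hN h2 => by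
      let S := (stabilizer C1[y] x8).map θ₀
      have hS : N ≤ S := by
        by_contra hc
        have h3 := (PG.dvd_relIndex_of_not_le h2 hc).trans 
          (relIndex_dvd_relIndex_of_norm_or (M := ⊤) le_top le_top (Or.inl le_norm_of_normal))
        rw [relIndex_top_right, index_map_eq _ hθ₀ (fun g hg => kfix g hg), index_stabilizer] at h3
        exact hodd.not_two_dvd_nat h3
      refine eq_bot_iff.2 fun n hn => ?_
      obtain ⟨g, rfl⟩ := hθ₀ n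
      refine hf₀ g ?_
      rintro _ ⟨c, rfl⟩
      obtain ⟨u, hu, e⟩ := hS (hN.conj_mem' _ hn (θ₀ c))
      have := kfix (u⁻¹ * (c⁻¹ * g * c)) (by rw [map_mul, map_inv, e]; simp [mul_assoc])
      rw [mul_smul, inv_smul_eq_iff, show u • x8 = x8 from hu, mul_smul, mul_smul,
        inv_smul_eq_iff] at this
      exact this)
    (fun N _ h => eq_bot_iff.2 fun t ht => by
      obtain ⟨d, rfl, h1⟩ := h t ht
      obtain ⟨g, hg⟩ := ex1 d
      rw [eθ d g hg]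
      refine hf₀ g ?_
      rintro _ ⟨c, rfl⟩
      obtain ⟨v, hv⟩ := cl_surj (c • x8)
      obtain ⟨q, hq⟩ := M.ex v
      have h2 : q ∈ Q ⊓ C1[b] := ⟨M.memQ hq, (M.fix_iff hq l hb).2 (by
        rw [hv, Subgroup.smul_def, ← mul_smul, ← mem_cent1.1 c.2, mul_smul, x8y])⟩
      have h3 := hQB _ (mul_mem (conj_mem_of_le_norm M.nQ d.2.1 h2.1) (inv_mem h2.1)) (h1 q h2)
      have := mem_St_iff.1 (M.mem_St hq hg (mem_cent1.2
        (mul_inv_eq_iff_eq_mul.1 (mul_inv_eq_one.1 h3))))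
      simp only [← hv]; exact this)
    (by
      obtain ⟨m, hm, e⟩ := M.conj_cent l.1 hb sR hs.1
      exact ⟨m, hm, e ▸ sR, e ▸ fun h => hs.2 (mul_inv_eq_one.1
        (hQB _ (mul_mem sR.1 (inv_mem M.mem)) h))⟩)
  exact ⟨zb, hn, hS, ⟨e⟩, ρ4⟩

end Cfsg.Agent.HeR
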