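import Cfsg.Agent.HeR.M0
import Cfsg.Agent.HeR.HH

/-! # The local hypothesis holds in a group of Monster type -/

set_option autoImplicit false
set_option maxRecDepth 100000

namespace Cfsg.Agent.HeR

open Cfsg.Spor Cfsg.Agent.GT Cfsg.Agent.TT Subgroup Cfsg.Agent.M24 MulAction Cfsg.Agent.Leech
  Cfsg.Agent.S5416 Cfsg.Agent.TC Cfsg.Agent.XL

/-- vectors -/
def vL : List (List ℤ) := [[0, 0, 0, -4, 0, 0, 0, 0, 0, 2, 2, 2, -2, -2, 0, 0, 2, 0, 0, -2, 0, -2, 4, 0], [0, 0, 0, -4, -2, 0, -2, 2, 2, 0, 0, 0, 0, 0, 0, -2, 0, 0, 2, 0, 2, 4, -2, 0], [8, 0, 0, 0, 0, 0, 0, 0, 0, 0, 0, 0, 0, 0, 0, 0, 0, 0, 0, 0, 0, 0, 0, 0], [], [], [], [0, 0, 0, 0, 6, 0, -2, -2, -2, 0, 0, 0, 0, 0, 0, -2, 0, 0, -2, 0, -2, 0, -2, 0], [], [0, 0, 0, 0, 0, 0, 0, 0, 0, -2, -2, -2, -2, -2, 0, 0, -2, 0, 0, 6, 0, -2, 0, 0], [1, 1, 1, -3, -1, 1, -1, 3, 3, -1, -1, -1, -1, -1, 1, -1, -1, 1, -1, -1, 3, 3, -1,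 1], [0, 0, 0, 0, 2, 0, 2, 2, 2, 0, 0, 0, 0, 0, 0, 2, 0, 0, 2, 0, 2, 0, 2, 0]]
/-- codes -/
def cL (i : ℕ) : ℕ := [2702256, 5539458, 1, 0, 0, 0, 5541435, 0, 2699493, 8537994, 5541434].getD i 0
/-- packed vectors -/
def nL (i : ℕ) : ℕ := [1509797269931736723271761920, 4412588702467263300826480640, 8, 0, 0, 0, 4349781228245097074244583424, 0, 271252989097703143305641984, 9656895314002178965306855697, 621397318320728153463586816].getD i 0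
/-- words -/
def wL : List (List ℕ) := [[], [0], [1], [0, 1], [2], [0, 2], [1, 2], [0, 1, 2], [6], [0, 6], [1, 6], [0, 1, 6], [2, 6], [0, 2, 6], [1, 2, 6], [0, 1, 2, 6], [8], [0, 8], [1, 8], [0, 1, 8], [2, 8], [0, 2, 8], [1, 2, 8], [0, 1, 2, 8], [6, 8], [0, 6, 8], [1, 6, 8], [0, 1, 6, 8], [2, 6, 8], [0, 2, 6, 8], [1, 2, 6, 8], [0, 1, 2, 6, 8], [9], [0, 9], [1, 9], [0, 1, 9], [2, 9], [0, 2, 9], [1, 2, 9], [0, 1, 2, 9], [6, 9], [0, 6, 9], [1, 6, 9], [0, 1, 6, 9], [2, 6, 9], [0, 2, 6, 9], [1, 2, 6, 9], [0, 1, 2, 6, 9], [8, 9], [0, 8, 9], [1, 8, 9], [0, 1, 8, 9], [2, 8, 9], [0, 2, 8, 9], [1, 2, 8, 9], [0, 1, 2, 8, 9], [6, 8, 9], [0, 6, 8, 9], [1, 6, 8, 9], [0, 1, 6, 8, 9], [2, 6, 8, 9], [0, 2, 6, 8, 9], [1, 2, 6, 8, 9], [0, 1, 2, 6, 8, 9]]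
theorem ex_b : ∃ g, mat g = nat_lit 0x1b0ff5beff596b22a15b8c87e8b8f6a27abdabd1867398afd50aa40b9a39eafcb7a2777b486d1640b0166e3f55bcffb0fc31749301c7602b66c383e73ec407615004698640293bb1 :=
  exists_wmat (w := [nat_lit 0xbd6cb22627638cfa224a834b318820000000, nat_lit 0xbdab49ca307b9ac5a928398a418820293e00, nat_lit 0x7baf40cea938e2c010c58284d5cac8eda08e, nat_lit 0x0, nat_lit 0xa1e4034d8a6deab241e5b0d21445c2000000, nat_lit 0x0, nat_lit 0x5a493a9ec2c26b41aa3b91c16d222fcd36b, nat_lit 0xbd6cb22627638cfa224a834b318820000000]) (by decide +kernel)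
theorem ex_g : ∃ g, mat g = nat_lit 0x402a7fabd3d43c242c4a7a0909b8cbe0c6116ffe0923586b74bcb524890ac8c621a08eb98b05ffd5fde2ab7e2ba8498fa0274fdea9ec000a5e805aef000dd6000050000090548e3b :=
  exists_wmat (w := [nat_lit 0xbd6cb22627638cfa224a834b318820000000, nat_lit 0x48163645e4b22f4938c2854272b553be81e1, nat_lit 0x0, nat_lit 0xba6956d88500e0a71e6c5c64879841000000, nat_lit 0x0, nat_lit 0x1d656c6e4ad192822c674de348542288174]) (by decide +kernel)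
theorem ex_gi : ∃ g, mat g = nat_lit 0x68ad2564222de5a19af5e1ca464dfadba765b25295b58aa4b59e338b52c981be6d8663be5d12b02c12683da000bfe2aabfeedcbfeeda1822bebfeede11be36099a427896e07dbede :=
  exists_wmat (w := [nat_lit 0x8a5ee3324b29e6da846ab229020057118561, nat_lit 0x0, nat_lit 0xbca95494cd1ae683b2c450a117040f000000, nat_lit 0x0, nat_lit 0x6bccc02e478a853a86ee22470a20b6467a59, nat_lit 0xbd6cb22627638cfa224a834b318820000000]) (by decide +kernel)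

/-- lattice vectors -/
noncomputable def V (i : ℕ) : Lv := ⟨vec (vL.getD i []), vec_getD_mem (by decide +kernel) i⟩

theorem cdV {i : ℕ} (hi : i < 11) : cd (V i) = cL i := by
  have : ∀ i < 11, Rep (V i).1 (nL i) ∧ cdN (nL i) = cL i := by decide +kernel
  exact (cd_of_rep (this i hi).1).trans (this i hi).2

/-- code of a word -/
def cdw : List ℕ → ℕ
  | [] => 0
  | i :: w => cdw w ^^^ cL i

theorem cd_zero : cd 0 = 0 := by rw [← cdx_cl, map_zero, cdx_zero]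

theorem cd_smul (g : Co0) (v : Lv) : cd (g • v) = apm (mat g) (cd v) := by
  rw [← cdx_cl, ← smul_cl, ← apm_mat, cdx_cl]

theorem fix_of_cd {v : Lv} (h : apm Ym (cd v) = cd v) : prm w7 • cl v = cl v :=
  cdx_inj (by rw [← apm_mat, hY, cdx_cl, h])

section

variable {G : Type*} [Group G] [Finite G] {Q : Subgroup G} {z : G} {Ψ : Lv → G → Prop}
  {π : C1[z] →* Co1} {b k s y y' : G} {g : Co0} {u v : Lv} {x : ℕ → G}

omit [Finite G] in
theorem eqz (M : MT Q z Ψ π) (a : Ψ u y) (a' : Ψ v y') (e : cd u = cd v) : y' = y ∨ y' = y * z :=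
  (M.cong_iff a a').1 (cd_eq.1 e)

omit [Finite G] in
theorem word (M : MT Q z Ψ π) (hx : ∀ i < 10, Ψ (V i) (x i)) :
    ∀ {w : List ℕ}, (∀ i ∈ w, i < 10) → ∃ v, Ψ v (evl x w) ∧ cd v = cdw w
  | [], _ => ⟨0, M.zero, cd_zero⟩
  | i :: w, h => by
    obtain ⟨v, a, e⟩ := word M hx fun j hj => h j (List.mem_cons_of_mem _ hj)
    have hi := h i List.mem_cons_self
    exact ⟨_, M.mul a (hx i hi), by rw [cd_add, e, cdV (by omega)]; rfl⟩

theorem sg_act (M : MT Q z Ψ π) (a : Ψ v s) (hk : k * z * k⁻¹ = s) (ne : s ≠ z) (hg : g • x8 = cl v)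
    {c : Finset GolayPt} (hc : IsCw c) (hy : y ∈ cj[k] Q) (a' : Ψ u y) :
    cd ((g * sgn c * g⁻¹) • u) = cd u ∨ cd ((g * sgn c * g⁻¹) • u) = cd u ^^^ cd v := by
  subst hk
  obtain ⟨g', h1, h2, -⟩ := M.pair (M.memQ a) ne a
  have h3 : g'⁻¹ * g ∈ Nm := stab_x8.le (by
    rw [mem_stabilizer_iff, mul_smul, hg, inv_smul_eq_iff, x8, smul_cl]; exact cl_eq.2 h1)
  have h4 : g * sgn c * g⁻¹ ∈ cj[g'] Sg := mem_conj.2 (by
    have := conj_mem_of_le_norm Nm_le_norm_Sg h3 (show sgn c ∈ Sg from ⟨c, hc, rfl⟩)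
    simpa [mul_assoc] using this)
  obtain ⟨t, ht, h5, e⟩ := mem_im.1 (h2.ge ⟨_, h4, rfl⟩)
  have h6 := M.equi (show Lf π t (g * sgn c * g⁻¹) from ⟨ht, e⟩) a'
  rcases (M.toES.conj_ k).conj t h5.1 y hy with h | h <;> rw [h] at h6
  · exact Or.inl (cd_eq.2 ((M.cong_iff h6 a').2 (Or.inl rfl)))
  · exact Or.inr ((cd_eq.2 ((M.cong_iff h6 (M.mul a' a)).2 (Or.inl rfl))).trans (cd_add _ _))

theorem Emem (M : MT Q z Ψ π) (l : Lf π b (prm w7)) (hb : orderOf b = 7) (a : Ψ v s) (hs : s ∈ C1[b])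
    (hk : k * z * k⁻¹ = s) (ne : s ≠ z) (hg : g • x8 = cl v) {c : Finset GolayPt} (hc : IsCw c)
    {A n : ℕ} (hA : mat (g * sgn c * g⁻¹) = A) (hn : cd v = n) {ok : List ℕ} (h8 : ok.length = 8)
    (chk : ball (fun m => force (Leech.apn 6 Fm m) fun c => bor (!(bor (Nat.beq (apm A c) c)
      (Nat.beq (apm A c) (c ^^^ n)))) (lm ok c)) 6 0 = true)
    (a' : Ψ u y) (hy : y ∈ C1[b]) (hu : cd u ∈ ok) : y ∈ cj[k] Q := by
  have ho : Odd (orderOf b) := hb ▸ by decide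
  have : Fact (Nat.Prime 7) := ⟨by norm_num⟩
  have P : LP Q z (cj[k] Q) s := hk ▸ M.lp (hk ▸ M.memQ a) (hk ▸ ne)
  let S : Set Lt := {x | cdx x ∈ ok ∧ prm w7 • x = x}
  have hS : S.ncard ≤ 8 := by
    rw [← h8, ← Set.ncard_image_of_injective _ cdx_inj]
    exact (Set.ncard_le_ncard (t := (ok.toFinset : Set ℕ)) (by
      rintro _ ⟨x, hx, rfl⟩; simpa using hx.1)).trans (by
        rw [Set.ncard_coe_finset]; exact List.toFinset_card_le _)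
  have hT := M.ncard_fix l ho (S := S) fun x hx => hx.2
  have hE : ((Q ⊓ cj[k] Q ⊓ C1[b] : Subgroup G) : Set G) ⊆
      {q | q ∈ C1[b] ∧ ∃ v, Ψ v q ∧ cl v ∈ S} := fun q hq => by
    obtain ⟨w, hw⟩ := M.surj q hq.1.1
    have h1 := (M.fix_iff hw l ho).1 hq.2
    refine ⟨hq.2, w, hw, ?_, h1⟩
    have h2 := cover fx.1 chk h1
    have h3 := sg_act M a hk ne hg hc hq.1.2 hw
    rw [cd_smul, hA, hn] at h3
    simp only [bor_eq, Bool.or_eq_true, Bool.not_eq_true', Bool.or_eq_false_iff, ← Bool.not_eq_true,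
      Nat.beq_eq, lm_iff, cdx_cl] at h2 ⊢
    exact h2.resolve_left fun h => h h3
  have c13 : Nat.card ↥(Q ⊓ cj[k] Q) = 2 ^ 13 := by
    subst hk; exact (M.pair (M.memQ a) ne a).choose_spec.2.2
  have m7 := PG.card_modEq_card_inf_cent (p := 7) (A := zpowers b) (N := Q ⊓ cj[k] Q)
    (PG.isPGroup_zpowers_of_pow_eq_one (k := 1) (by rw [pow_one, ← hb, pow_orderOf_eq_one]))
    (le_norm_inf (zpowers_le.2 (M.nQ l.1)) (zpowers_le.2 (P.hS.nQ (mem_cent1_comm.1 hs))))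
  rw [cent_zpowers, c13] at m7
  have c16 := Set.ncard_le_ncard hE
  rw [hT, ← Nat.card_coe_set_eq] at c16
  obtain ⟨j, -, hj⟩ := (Nat.dvd_prime_pow Nat.prime_two).1
    (c13 ▸ card_dvd_of_le (inf_le_left : Q ⊓ cj[k] Q ⊓ C1[b] ≤ _))
  have n2 : Nat.card ↥(Q ⊓ cj[k] Q ⊓ C1[b]) ≠ 2 := fun h => by
    obtain ⟨w, ww, -, e⟩ := exists_of_card_two h
    have z1 := (mem_zp2 ww).1 (e.le ⟨⟨M.mem, P.zS⟩, mem_cent1_comm.1 l.1⟩)
    have z2 := (mem_zp2 ww).1 (e.le ⟨⟨P.sQ, P.hS.mem⟩, hs⟩)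
    exact ne ((z2.resolve_left P.hS.ne).trans (z1.resolve_left M.ne).symm)
  have c4 : Nat.card ↥(Q ⊓ cj[k] Q ⊓ C1[b]) = 16 := by
    change Nat.card ↥(Q ⊓ cj[k] Q ⊓ C1[b]) ≤ _ at c16
    rw [hj] at m7 c16 n2 ⊢
    have : j < 5 := by
      by_contra h
      have := Nat.pow_le_pow_right (n := 2) (by norm_num) (not_lt.1 h)
      omega
    interval_cases j <;> first | rfl | exact absurd m7 (by decide) | exact absurd rfl n2
  have := Set.eq_of_subset_of_ncard_le hE (by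
    rw [hT, ← Nat.card_coe_set_eq ((Q ⊓ cj[k] Q ⊓ C1[b] : Subgroup G) : Set G)]
    change _ ≤ Nat.card ↥(Q ⊓ cj[k] Q ⊓ C1[b]); omega)
  exact (this.ge ⟨hy, u, a', hu, (M.fix_iff a' l ho).1 hy⟩).1.2

omit [Finite G] in
theorem exists_x (M : MT Q z Ψ π) (a : Ψ (e8 none) s) :
    ∃ x : ℕ → G, (∀ i < 10, Ψ (V i) (x i)) ∧ x 2 = s ∧ x 3 = z := by
  choose u hu using fun i => M.ex (V i)
  refine ⟨fun i => if i = 2 then s else if i = 3 then z else u i, fun i _ => ?_, by simp, by simp⟩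
  beta_reduce
  split_ifs with h1 h2
  · exact M.of_cong a (cd_eq.1 (by rw [← cdx_cl, cdx_e8, h1, cdV (by norm_num)]; rfl))
  · exact M.of_cong (one_mul z ▸ M.mulz M.zero) (cd_eq.1 (by rw [cd_zero, h2, cdV (by norm_num)]; rfl))
  · exact hu i

theorem xb (M : MT Q z Ψ π) (l : Lf π b (prm w7)) (hb : orderOf b = 7) (hx : ∀ i < 10, Ψ (V i) (x i))
    {i : ℕ} (hi : i < 10) : x i ∈ C1[b] := by
  have : ∀ i < 10, apm Ym (cL i) = cL i := by decide +kernel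
  exact (M.fix_iff (hx i hi) l (hb ▸ by decide)).2 (fix_of_cd (by rw [cdV (by omega), this i hi]))

theorem genR (M : MT Q z Ψ π) (l : Lf π b (prm w7)) (hb : orderOf b = 7) (hx : ∀ i < 10, Ψ (V i) (x i))
    (h3 : x 3 = z) : Q ⊓ C1[b] = Mb x Rl := by
  have h10 : ∀ i ∈ Rl, i < 10 := by decide
  refine le_antisymm (fun q hq => ?_) (Mb.le fun i hi => ⟨M.memQ (hx i (h10 i hi)), xb M l hb hx (h10 i hi)⟩)
  obtain ⟨w, hw⟩ := M.surj q hq.1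
  have h2 := cover fx.1 (f := fun c => wL.any fun w => band (lsub w Rl) (Nat.beq (cdw w) c))
    (by decide +kernel) ((M.fix_iff hw l (hb ▸ by decide)).1 hq.2)
  simp only [List.any_eq_true, band_eq, Bool.and_eq_true, Nat.beq_eq, cdx_cl] at h2
  obtain ⟨u, -, h4, h5⟩ := h2
  obtain ⟨v, h6, h7⟩ := word M hx fun i hi => h10 i (lsub_iff.1 h4 i hi)
  rcases eqz M h6 hw (h7.trans h5) with e | e <;> rw [e]
  · exact Mb.ev' h4
  · exact mul_mem (Mb.ev' h4) (h3 ▸ Mb.of (by decide))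

omit [Finite G] in
theorem sqx (M : MT Q z Ψ π) (hx : ∀ i < 10, Ψ (V i) (x i)) {i : ℕ} (hi : i < 10) : x i * x i = 1 := by
  have : ∀ i < 10, 32 ∣ sqNorm (V i).1 := by decide +kernel
  exact (M.sq_iff (hx i hi)).2 (this i hi)

omit [Finite G] in
theorem relx (M : MT Q z Ψ π) (hx : ∀ i < 10, Ψ (V i) (x i)) (h3 : x 3 = z) :
    ∀ l ∈ relR, evl x l = 1 := fun l hl => by
  have : ∀ l ∈ relR, ∃ i < 10, ∃ j < 10, (l = [i, j, i, j] ∧ 16 ∣ dotInt (V i).1 (V j).1) ∨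
      (l = [i, j, i, j, 3] ∧ ¬ 16 ∣ dotInt (V i).1 (V j).1) := by decide +kernel
  obtain ⟨i, hi, j, hj, ⟨rfl, h⟩ | ⟨rfl, h⟩⟩ := this l hl <;>
    rw [← M.comm_iff (hx i hi) (hx j hj)] at h <;> simp only [evl, one_mul]
  · rw [mul_assoc, mul_assoc, ← mul_assoc (x i), h.eq, mul_assoc, sqx M hx hi, mul_one, sqx M hx hj]
  · rw [h3, mul_assoc, mul_assoc, mul_assoc, ← mul_assoc (x i), M.mul_eq (M.memQ (hx i hi)) (M.memQ (hx j hj)) h,
      ← mul_assoc, ← mul_assoc, ← mul_assoc, ← mul_assoc, mul_assoc z, sqx M hx hj, mul_one,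
      (M.zc _ (M.memQ (hx i hi))).eq, mul_assoc (x i), M.zz, mul_one, sqx M hx hi]

theorem actx (M : MT Q z Ψ π) (l : Lf π b (prm w7)) (hb : orderOf b = 7) (hx : ∀ i < 10, Ψ (V i) (x i))
    {H : Subgroup G} (hH : H ≤ C1[z]) (hn : b ∈ N[H]) {X : Subgroup Co0} (hX : im π H = X.map pj)
    (hng : ng ∈ X) {A : ℕ} (hA : ∃ g ∈ X, mat g = A) {act : List (ℕ × List ℕ)} (h1 : mulm A Ym = mulm Ym A)
    (h2 : ∀ p ∈ act, p.1 < 10 ∧ (∀ i ∈ p.2, i < 10) ∧ apm A (cL p.1) = cdw p.2) :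
    ∃ d ∈ H ⊓ C1[b], ∀ p ∈ act, d * x p.1 * d⁻¹ = evl x p.2 ∨ d * x p.1 * d⁻¹ = evl x p.2 * z := by
  obtain ⟨g, hg, rfl⟩ := hA
  have ho := odd_prm orderOf_w7 (by decide)
  have hD := M.im_cent_odd l (hb ▸ by decide) ho hH hn hX hng
  obtain ⟨d, h3, h4, e⟩ := mem_im.1 (hD.ge ⟨g, ⟨hg, mem_cent1.2 (commute_of_pj ho (by
    rw [Commute, SemiconjBy, ← map_mul, ← map_mul, ← mat_eq, mat_mul, mat_mul, hY, h1]))⟩, rfl⟩)
  refine ⟨d, h4, fun p hp => ?_⟩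
  obtain ⟨h5, h6, h7⟩ := h2 p hp
  obtain ⟨v, h8, h9⟩ := word M hx h6
  exact eqz M h8 (M.equi ⟨h3, e⟩ (hx _ h5)) (by rw [h9, cd_smul, cdV (by omega), h7])

theorem acta (M : MT Q z Ψ π) (l : Lf π b (prm w7)) (hb : orderOf b = 7) (hx : ∀ i < 10, Ψ (V i) (x i))
    (hs : x 2 ∈ C1[b]) (hk : k * z * k⁻¹ = x 2) (ne : x 2 ≠ z) (h18 : (1 : Co0) • x8 = cl (V 2)) :
    ∃ d ∈ cj[k] Q ⊓ C1[z] ⊓ C1[b],
      ∀ p ∈ actA, d * x p.1 * d⁻¹ = evl x p.2 ∨ d * x p.1 * d⁻¹ = evl x p.2 * z := by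
  have a := hx 2 (by norm_num)
  have P : LP Q z (cj[k] Q) (x 2) := by
    have := M.lp (k := k) (by rw [hk]; exact M.memQ a) (by rw [hk]; exact ne)
    rwa [hk] at this
  rw [← hk] at a
  obtain ⟨g', h1, h2, -⟩ := M.pair (M.memQ a) (by rw [hk]; exact ne) a
  have h3 : g'⁻¹ ∈ Nm := stab_x8.le (by
    rw [mem_stabilizer_iff, inv_smul_eq_iff]
    exact ((one_smul Co0 x8).symm.trans h18).trans (by rw [x8, smul_cl]; exact cl_eq.2 h1))
  have h4 : ∀ y ∈ Sg, y ∈ cj[g'] Sg := fun y hy => mem_conj.2 (by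
    simpa using conj_mem_of_le_norm Nm_le_norm_Sg h3 hy)
  have hc := (isCw_unmask (m := 0x5481d0) (by norm_num)).2 (by decide +kernel)
  exact actx M l hb hx inf_le_right (le_norm_inf (zpowers_le.2 (P.hS.nQ (mem_cent1_comm.1 hs)))
    (zpowers_le.2 (le_normalizer l.1)) (mem_zpowers b)) h2 (h4 _ ng_mem_Sg)
    ⟨_, h4 _ ⟨_, hc, rfl⟩, mat_sgn hc⟩ (by decide +kernel) (by decide +kernel)

theorem conjx (M : MT Q z Ψ π) (l : Lf π b (prm w7)) (hb : orderOf b = 7) (a : Ψ v y) (hy : y ∈ C1[b])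
    (hv : cl v ∈ orbit Co0 x8) : y ≠ z ∧ ∃ m ∈ C1[b], m * z * m⁻¹ = y :=
  have h := (M.conj_z_iff a).2 (cl_mem_orbit.1 hv)
  ⟨h.2, M.conj_cent l.1 (hb ▸ by decide) ⟨M.memQ a, hy⟩ h.1⟩

theorem ncx (M : MT Q z Ψ π) (hx : ∀ i < 10, Ψ (V i) (x i)) : ¬ IsConj z (x 2 * x 6) := fun h => by
  have a := M.mul (hx 2 (by norm_num)) (hx 6 (by norm_num))
  have c : cd (V 2 + V 6) = cd (V 10) := by
    rw [cd_add, cdV (by norm_num), cdV (by norm_num), cdV (by norm_num)]; rfl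
  have h1 := (M.conj_z_iff a).1 ⟨h, fun e => by
    have := (cd_eq (w := 0)).2 ((M.cong_zero a).2 (Or.inr e))
    rw [c, cdV (by norm_num), cd_zero] at this
    exact absurd this (by decide)⟩
  have n : sqNorm (V 10).1 = 32 := by decide +kernel
  have := ((Eqv.of_cong (cd_eq.1 c.symm)).trans h1).norm_eq (by rw [n]; norm_num) (norm_e8 _).le
  rw [n, norm_e8] at this
  exact absurd this (by norm_num)

theorem exists_HH {H : Type*} [Group H] [Finite H] (M : MT Q z Ψ π) (a : Ψ (e8 none) s)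
    (l : Lf π b (prm w7)) (hb : orderOf b = 7) (hs : b ∈ C1[s]) (ρ : C1[b] →* H)
    (hρ : Function.Surjective ρ) (hk : kr ρ = zpowers b) :
    ∃ (R : Subgroup H) (r : ℕ → H) (da db g1 g2 : H) (z' s' : C1[b]), HH R r da db g1 g2 ∧ z'.1 = z ∧
      s'.1 = s ∧ r 3 = ρ z' ∧ r 2 = ρ s' := by
  obtain ⟨θ, h1, h3, h4, h5, h6, -⟩ := good
  obtain ⟨zb, hn, ⟨o2, hF, hE, hc, -⟩, ⟨e⟩, ρ4⟩ := odd_setting2 M a hs l (hb ▸ by decide)
    (odd_prm orderOf_w7 (by decide)) θ h1 h3 h4 h5 h6 ρ hρ hk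
  obtain ⟨x, hx, x2, x3⟩ := exists_x M a
  have hxb := fun i (hi : i < 10) => xb M l hb hx hi
  let x' : ℕ → C1[b] := fun i => if h : i < 10 then ⟨x i, hxb i h⟩ else 1
  have ex : ∀ i < 10, (x' i).1 = x i := fun i hi => by simp only [x', dif_pos hi]
  have ev : ∀ w : List ℕ, (∀ i ∈ w, i < 10) → (evl x' w).1 = evl x w := fun w hw =>
    (evl_map C1[b].subtype x' w).trans (evl_congr fun i hi => ex i (hw i hi))
  have z3 : x' 3 = ⟨z, zb⟩ := Subtype.ext ((ex 3 (by norm_num)).trans x3)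
  have h10 : ∀ i ∈ Rl, i < 10 := by decide
  have hR : im ρ (Q ⊓ C1[b]) ≤ C1[ρ ⟨z, zb⟩] := fun y hy => by
    obtain ⟨y, h, hy', rfl⟩ := mem_im.1 hy
    exact mem_cent1.2 (by
      rw [← map_mul, ← map_mul]; exact congrArg ρ (Subtype.ext (M.zc _ hy'.1).eq.symm))
  have hF' : fstarOf C1[ρ ⟨z, zb⟩] = im ρ (Q ⊓ C1[b]) := by
    rw [← map_subtype_fstar, hF, subgroupOf_map_subtype, inf_eq_left.2 hR]
  have lq : LQ (im ρ (Q ⊓ C1[b])) (ρ ⟨z, zb⟩) := by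
    obtain ⟨w, hw⟩ := ES.of_isExtraspecial hE
    have := (hw.map C1[ρ ⟨z, zb⟩].subtype fun x _ h => Subtype.ext h).isExtraspecial
    rw [subgroupOf_map_subtype, inf_eq_left.2 hR] at this
    exact LQ.of_fstar o2 hF' this
  obtain ⟨db, hb', cb⟩ := actx M l hb hx le_rfl (le_normalizer l.1) (X := ⊤)
    (by rw [im_dom_of_surj M.πs, map_top_of_surjective _ pj_surj]) trivial (ex_b.imp fun _ h => ⟨trivial, h⟩)
    (act := actB) (by decide +kernel) (by decide +kernel)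
  have tr : ∀ {d : G} (hd : d ∈ C1[z] ⊓ C1[b]) {act : List (ℕ × List ℕ)}, (∀ p ∈ act, p.1 < 10 ∧ ∀ i ∈ p.2, i < 10) →
      (∀ p ∈ act, d * x p.1 * d⁻¹ = evl x p.2 ∨ d * x p.1 * d⁻¹ = evl x p.2 * z) →
      ρ ⟨d, hd.2⟩ ∈ C1[ρ (x' 3)] ∧ ∀ p ∈ act, ρ ⟨d, hd.2⟩ * ρ (x' p.1) * (ρ ⟨d, hd.2⟩)⁻¹ = evl (fun i => ρ (x' i)) p.2 ∨
        ρ ⟨d, hd.2⟩ * ρ (x' p.1) * (ρ ⟨d, hd.2⟩)⁻¹ = evl (fun i => ρ (x' i)) p.2 * ρ (x' 3) := fun hd act h1 h2 => by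
    refine ⟨mem_cent1.2 (by
      rw [z3, ← map_mul, ← map_mul]; exact congrArg ρ (Subtype.ext (mem_cent1.1 hd.1))), fun p hp => ?_⟩
    rw [← evl_map, ← map_mul, ← map_inv, ← map_mul, ← map_mul, z3]
    refine (h2 p hp).imp (fun e => congrArg ρ (Subtype.ext ?_)) fun e => congrArg ρ (Subtype.ext ?_) <;>
      simpa only [Subgroup.coe_mul, Subgroup.coe_inv, ex _ (h1 p hp).1, ev _ (h1 p hp).2] using e
  obtain ⟨g, hg⟩ := ex_g
  obtain ⟨g', hg'⟩ := ex_gi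
  have hg1 : g • x8 = cl (V 6) := cdx_inj (by
    rw [← apm_mat, hg, cdx_x8, cdx_cl, cdV (by norm_num)]; decide +kernel)
  have hg2 : mat g⁻¹ = mat g' := mat_eq.2 (by
    rw [map_inv, inv_eq_iff_mul_eq_one, ← map_mul, ← map_one pj, ← mat_eq, mat_mul, hg, hg', mat_one]
    decide +kernel)
  have h18 : (1 : Co0) • x8 = cl (V 2) := cdx_inj (by rw [one_smul, cdx_x8, cdx_cl, cdV (by norm_num)]; rfl)
  obtain ⟨n1, m1, hm1, e1⟩ := conjx M l hb (hx 2 (by norm_num)) (hxb 2 (by norm_num)) ⟨1, h18⟩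
  obtain ⟨da, ha', ca⟩ := acta M l hb hx (hxb 2 (by norm_num)) e1 n1 h18
  have ha : da ∈ C1[z] ⊓ C1[b] := ⟨ha'.1.2, ha'.2⟩
  obtain ⟨n2, m2, hm2, e2⟩ := conjx M l hb (hx 6 (by norm_num)) (hxb 6 (by norm_num)) ⟨g, hg1⟩
  obtain ⟨-, m9, hm9, e9⟩ := conjx M l hb (hx 9 (by norm_num)) (hxb 9 (by norm_num)) (by
    obtain ⟨h, hh⟩ := ex_h
    obtain ⟨k, -, e⟩ := conn_u hh (x := cl (V 9)) (by rw [cdx_cl, cdV (by norm_num)]; decide +kernel)
    exact ⟨k * h, (mul_smul _ _ _).trans e⟩)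
  have E1 := fun u y => Emem (u := u) (y := y) M l hb (hx 2 (by norm_num)) (hxb 2 (by norm_num)) e1 n1 h18
    ((isCw_unmask (m := 0x1cf307) (by norm_num)).2 (by decide +kernel)) (A := matS 0x1cf307) (n := 1)
    (by rw [one_mul, inv_one, mul_one, mat_sgn ((isCw_unmask (by norm_num)).2 (by decide +kernel))])
    (cdV (by norm_num)) (ok := [0, 1, 0x3ec, 0x3ed, 0x8b8, 0x8b9, 0xb54, 0xb55]) rfl (by decide +kernel)
  have E2 := fun u y => Emem (u := u) (y := y) M l hb (hx 6 (by norm_num)) (hxb 6 (by norm_num)) e2 n2 hg1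
    ((isCw_unmask (m := 0x2ee5fd) (by norm_num)).2 (by decide +kernel)) (n := 0x548e3b)
    (by rw [mat_mul, mat_mul, hg2, hg, hg', mat_sgn ((isCw_unmask (by norm_num)).2 (by decide +kernel))])
    (cdV (by norm_num)) (ok := [0, 0x2930e4, 0x548e3b, 0x7dbedf, 0x824f33, 0xab7fd7, 0xd6c108, 0xfff1ec]) rfl
    (by decide +kernel)
  have cjt : ∀ {m : G} (hm : m ∈ C1[b]) {i : ℕ} (hi : i < 10), m * z * m⁻¹ = x i →
      ρ ⟨m, hm⟩ * ρ (x' 3) * (ρ ⟨m, hm⟩)⁻¹ = ρ (x' i) := fun hm i hi e => by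
    rw [z3, ← map_mul, ← map_inv, ← map_mul]; exact congrArg ρ (Subtype.ext (e.trans (ex i hi).symm))
  have net : ∀ {i : ℕ} (hi : i < 10), x i ≠ z → ρ (x' i) ≠ ρ (x' 3) := fun {i} hi h e => h (by
    have := congrArg Subtype.val (ρ4 _ _ (by rw [ex i hi]; exact M.pow_four (M.memQ (hx i hi)))
      (by rw [z3]; exact M.pow_four M.mem) e)
    rwa [ex i hi, z3] at this)
  have Et : ∀ {m : G} (hm : m ∈ C1[b]) {i j : ℕ} (hi : i < 10) (hj : j < 10), x i * x j ∈ cj[m] Q →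
      ρ (x' i) * ρ (x' j) ∈ cj[ρ ⟨m, hm⟩] (im ρ (Q ⊓ C1[b])) := fun {m} hm i j hi hj h => by
    rw [mem_conj, ← map_mul, ← map_inv, ← map_mul, ← map_mul]
    have hp := ((⟨m, hm⟩ : C1[b])⁻¹ * (x' i * x' j) * ⟨m, hm⟩).2
    refine mem_im_of_mem hp (mem_inf.2 ⟨?_, hp⟩)
    simpa only [Subgroup.coe_mul, Subgroup.coe_inv, ex i hi, ex j hj] using mem_conj.1 h
  have cR : Nat.card (im ρ (Q ⊓ C1[b])) = 128 := by rw [← card_subgroupOf hR, hc]; norm_num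
  have Ep : ∀ {i j : ℕ} (hi : i < 10) (hj : j < 10), Ψ (V i + V j) (x i * x j) ∧ x i * x j ∈ C1[b] ∧
      cd (V i + V j) = cL i ^^^ cL j := fun hi hj => ⟨M.mul (hx _ hi) (hx _ hj), mul_mem (hxb _ hi) (hxb _ hj),
        by rw [cd_add, cdV (by omega), cdV (by omega)]⟩
  refine ⟨im ρ (Q ⊓ C1[b]), fun i => ρ (x' i), ρ ⟨da, ha.2⟩, ρ ⟨db, hb'.2⟩, ρ ⟨m1, hm1⟩, ρ ⟨m2, hm2⟩, x' 3, x' 2,
    ⟨z3 ▸ lq, cR, ?_, ?_, ?_, fun i hi => ?_, fun w hw => ?_, (tr ha (by decide) ca).1, (tr hb' (by decide) cb).1,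
      (tr ha (by decide) ca).2, (tr hb' (by decide) cb).2, cjt hm1 (by norm_num) e1, cjt hm2 (by norm_num) e2,
      net (by norm_num) n1, net (by norm_num) n2, Et hm1 (by norm_num) (by norm_num) ?_,
      Et hm1 (by norm_num) (by norm_num) ?_, Et hm2 (by norm_num) (by norm_num) ?_,
      Et hm2 (by norm_num) (by norm_num) ?_, fun h => ?_, isConj_iff.2 ⟨_, cjt hm9 (by norm_num) e9⟩, ?_⟩,
    congrArg Subtype.val z3, (ex 2 (by norm_num)).trans x2, rfl, rfl⟩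
  · have hc' := Cl.card_sl_mul (F := ZMod 2) 3 (by norm_num)
    simp only [ZMod.card, Fin.prod_univ_three] at hc'
    rw [z3, card_eq_card_quotient_mul_card_subgroup ((im ρ (Q ⊓ C1[b])).subgroupOf _), hc,
      Nat.card_congr e.toEquiv, (one_mul _).symm.trans hc']
    decide
  · rw [z3]
    exact le_antisymm ((Op_le_fittingOf Nat.prime_two _).trans (le_sup_right.trans hF'.le)) lq.le_Op
  · rw [← Mb.map, im, genR M l hb hx x3]
    congr 1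
    apply map_injective C1[b].subtype_injective
    rw [subgroupOf_map_subtype, Mb.map, ← genR M l hb hx x3, inf_eq_left.2 inf_le_right, genR M l hb hx x3]
    exact Mb.congr fun i hi => (ex i (h10 i hi)).symm
  · rw [← map_mul, ← map_one ρ]
    exact congrArg ρ (Subtype.ext (by rw [Subgroup.coe_mul, ex i (h10 i hi)]; exact sqx M hx (h10 i hi)))
  · rw [← evl_map, ← map_one ρ]
    exact congrArg ρ (Subtype.ext ((ev w ((by decide : ∀ w ∈ relR, ∀ i ∈ w, i < 10) w hw)).trans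
      (relx M hx x3 w hw)))
  · have := Ep (i := 0) (j := 8) (by norm_num) (by norm_num)
    exact E1 _ _ this.1 this.2.1 (by rw [this.2.2]; decide)
  · have := Ep (i := 1) (j := 6) (by norm_num) (by norm_num)
    exact E1 _ _ this.1 this.2.1 (by rw [this.2.2]; decide)
  · have := Ep (i := 2) (j := 8) (by norm_num) (by norm_num)
    exact E2 _ _ this.1 this.2.1 (by rw [this.2.2]; decide)
  · have := Ep (i := 1) (j := 9) (by norm_num) (by norm_num)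
    exact E2 _ _ this.1 this.2.1 (by rw [this.2.2]; decide)
  · obtain ⟨t, ht⟩ := isConj_iff.1 h
    obtain ⟨m, rfl⟩ := hρ t
    have := ρ4 (m * x' 3 * m⁻¹) (x' 2 * x' 6) (by simpa [z3] using M.pow_four M.mem) (by
      rw [Subgroup.coe_mul, ex 2 (by norm_num), ex 6 (by norm_num)]
      exact M.pow_four (M.memQ (Ep (by norm_num) (by norm_num)).1)) (by simpa using ht)
    refine ncx M hx (isConj_iff.2 ⟨m, ?_⟩)
    simpa only [Subgroup.coe_mul, Subgroup.coe_inv, z3, ex 2 (by norm_num), ex 6 (by norm_num)] using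
      congrArg Subtype.val this
  · rw [mem_conj, ← map_inv, ← map_mul, ← map_mul]
    have hp := ((⟨m1, hm1⟩ : C1[b])⁻¹ * ⟨da, ha.2⟩ * ⟨m1, hm1⟩).2
    exact mem_im_of_mem hp (mem_inf.2 ⟨mem_conj.1 ha'.1.1, hp⟩)

end

end Cfsg.Agent.HeR
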