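import Cfsg.Agent.TC.Kit

set_option autoImplicit false
set_option linter.all false
set_option maxRecDepth 100000

namespace Cfsg.Agent.TC.HeRTM

open Cfsg.Agent.M24

noncomputable def row (q : ℕ) : ℕ :=
  (@Bool.rec (fun _ => ℕ) (@Bool.rec (fun _ => ℕ) (nat_lit 0x2c0008000000000000000000000124170200020001003d00000500011c160400030001301502000600013814020006000114130200060001081202000600012c11020006000110100200060001340f02000600010c0e0200060001040d0200060001180c020006) (@Bool.rec (fun _ => ℕ) (nat_lit 0x3000000000000000000000000000c83e0000010000fc000000060000cc311600040000e40b0600050000e00a0600050000dc090600050000f4080800050000f0070600050000f8060800050000ec050600050000d8040600050000e8030800050000d402060005) (nat_lit 0x3000040000000000000000000000903e000003000094180600020000d03c0000050000b8150600040000c0140200040000ac130600040000a0120600040000b4110600040000a8100600040000bc0f0800040000a40e06000400009c0d0600040000b00c0a0004)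 (Nat.ble q (nat_lit 3))) (Nat.ble q (nat_lit 4))) (@Bool.rec (fun _ => ℕ) (nat_lit 0x2c000000000000000000000000008c000000040000603d0000010001203c0000060000801502000300008814020003000074130200030000681202000300007c11020003000070100200030000840f02000300006c0e0200030000640d0200030000780c020003) (@Bool.rec (fun _ => ℕ) (nat_lit 0x2800000000000000000000000001283e0000060000983d0000040000303c0000010000440b0200020000400a02000200003c0902000200005408020002000050070200020000580602000200004c05020002000038040200020000480302000200003402020002) (nat_lit 0xc40000000500005c0000000300002c0000000200002801000001000024010000010000200100000100001c0100000100001801000001000014010000010000100100000100000c010000010000080100000100000401000001) (Nat.ble q (nat_lit 0))) (Nat.ble q (nat_lit 1))) (Nat.ble q (nat_lit 2)))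

noncomputable def relt_1 (q : ℕ) : ℕ :=
  (@Bool.rec (fun _ => ℕ) (@Bool.rec (fun _ => ℕ) (@Bool.rec (fun _ => ℕ) (nat_lit 0x45515422a8aa05) (nat_lit 0x2221544504442a88a07) (Nat.ble q (nat_lit 6))) (@Bool.rec (fun _ => ℕ) (nat_lit 0x350d401a86a05) (nat_lit 0x1284a1284a04) (Nat.ble q (nat_lit 4))) (Nat.ble q (nat_lit 5))) (@Bool.rec (fun _ => ℕ) (@Bool.rec (fun _ => ℕ) (nat_lit 0x22505411282a05) (nat_lit 0x280a0280a04) (Nat.ble q (nat_lit 2))) (@Bool.rec (fun _ => ℕ) (nat_lit 0x0) (nat_lit 0x0) (Nat.ble q (nat_lit 0))) (Nat.ble q (nat_lit 1))) (Nat.ble q (nat_lit 3)))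

noncomputable def relt_2 (q : ℕ) : ℕ :=
  (@Bool.rec (fun _ => ℕ) (@Bool.rec (fun _ => ℕ) (@Bool.rec (fun _ => ℕ) (nat_lit 0x4432ac6b004432ac6b08) (nat_lit 0x225896112c4b05) (Nat.ble q (nat_lit 14))) (@Bool.rec (fun _ => ℕ) (nat_lit 0xac2b0ac2b04) (nat_lit 0x88b02c0222c0b06) (Nat.ble q (nat_lit 12))) (Nat.ble q (nat_lit 13))) (@Bool.rec (fun _ => ℕ) (@Bool.rec (fun _ => ℕ) (nat_lit 0x4a92a4a92a04) (nat_lit 0x4290a4290a04) (Nat.ble q (nat_lit 10))) (@Bool.rec (fun _ => ℕ) (nat_lit 0x3a8ea3a8ea04) (nat_lit 0xc7519463a8ca05) (Nat.ble q (nat_lit 8))) (Nat.ble q (nat_lit 9))) (Nat.ble q (nat_lit 11)))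

noncomputable def relt_3 (q : ℕ) : ℕ :=
  (@Bool.rec (fun _ => ℕ) (@Bool.rec (fun _ => ℕ) (@Bool.rec (fun _ => ℕ) (nat_lit 0x62d8b62d8b62d8b06) (nat_lit 0x5a96a5a96a5a96a06) (Nat.ble q (nat_lit 22))) (@Bool.rec (fun _ => ℕ) (nat_lit 0x2222569584444ad2b07) (nat_lit 0x98e8320a63ad0b098e8320a63ad0b0c) (Nat.ble q (nat_lit 20))) (Nat.ble q (nat_lit 21))) (@Bool.rec (fun _ => ℕ) (@Bool.rec (fun _ => ℕ) (nat_lit 0xc759d663aceb05) (nat_lit 0x32ccb32ccb04) (Nat.ble q (nat_lit 18))) (@Bool.rec (fun _ => ℕ) (nat_lit 0x2221565584442acab07) (nat_lit 0x245916122c8b05) (Nat.ble q (nat_lit 16))) (Nat.ble q (nat_lit 17))) (Nat.ble q (nat_lit 19)))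

noncomputable def relt_4 (q : ℕ) : ℕ :=
  (@Bool.rec (fun _ => ℕ) (@Bool.rec (fun _ => ℕ) (@Bool.rec (fun _ => ℕ) (nat_lit 0x1455144a2a8a205) (nat_lit 0x144514820a88a2904107) (Nat.ble q (nat_lit 30))) (@Bool.rec (fun _ => ℕ) (nat_lit 0x14350c0a1a86005) (nat_lit 0x509425094204) (Nat.ble q (nat_lit 28))) (Nat.ble q (nat_lit 29))) (@Bool.rec (fun _ => ℕ) (@Bool.rec (fun _ => ℕ) (nat_lit 0x1415082a0a84105) (nat_lit 0x501405014004) (Nat.ble q (nat_lit 26))) (@Bool.rec (fun _ => ℕ) (nat_lit 0x1a4032a46962d8a1a4032a46962d8a0c) (nat_lit 0x1a4032a4695b16a1a4032a4695b16a0c) (Nat.ble q (nat_lit 24))) (Nat.ble q (nat_lit 25))) (Nat.ble q (nat_lit 27)))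

noncomputable def relt_5 (q : ℕ) : ℕ :=
  (@Bool.rec (fun _ => ℕ) (@Bool.rec (fun _ => ℕ) (@Bool.rec (fun _ => ℕ) (nat_lit 0x58d651882058d651882008) (nat_lit 0x1625882b12c4105) (Nat.ble q (nat_lit 38))) (@Bool.rec (fun _ => ℕ) (nat_lit 0x585615856104) (nat_lit 0x58164101605904006) (Nat.ble q (nat_lit 36))) (Nat.ble q (nat_lit 37))) (@Bool.rec (fun _ => ℕ) (@Bool.rec (fun _ => ℕ) (nat_lit 0x525495254904) (nat_lit 0x521485214804) (Nat.ble q (nat_lit 34))) (@Bool.rec (fun _ => ℕ) (nat_lit 0x51d4751d4704) (nat_lit 0x14651cca328e605) (Nat.ble q (nat_lit 32))) (Nat.ble q (nat_lit 33))) (Nat.ble q (nat_lit 35)))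

noncomputable def relt_6 (q : ℕ) : ℕ :=
  (@Bool.rec (fun _ => ℕ) (@Bool.rec (fun _ => ℕ) (@Bool.rec (fun _ => ℕ) (nat_lit 0x5b16c5b16c5b16c06) (nat_lit 0x52d4b52d4b52d4b06) (Nat.ble q (nat_lit 46))) (@Bool.rec (fun _ => ℕ) (nat_lit 0x1695a4820ad2b4904107) (nat_lit 0x5a1673150641cc15a1673150641cc10c) (Nat.ble q (nat_lit 44))) (Nat.ble q (nat_lit 45))) (@Bool.rec (fun _ => ℕ) (@Bool.rec (fun _ => ℕ) (nat_lit 0x16759ccb3ace605) (nat_lit 0x599665996604) (Nat.ble q (nat_lit 42))) (@Bool.rec (fun _ => ℕ) (nat_lit 0x165594820acab2904107) (nat_lit 0x1645902b22c8105) (Nat.ble q (nat_lit 40))) (Nat.ble q (nat_lit 41))) (Nat.ble q (nat_lit 43)))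

noncomputable def relt_7 (q : ℕ) : ℕ :=
  (@Bool.rec (fun _ => ℕ) (@Bool.rec (fun _ => ℕ) (@Bool.rec (fun _ => ℕ) (nat_lit 0x294a502) (nat_lit 0x2108402) (Nat.ble q (nat_lit 54))) (@Bool.rec (fun _ => ℕ) (nat_lit 0x18c6302) (nat_lit 0x1084202) (Nat.ble q (nat_lit 52))) (Nat.ble q (nat_lit 53))) (@Bool.rec (fun _ => ℕ) (@Bool.rec (fun _ => ℕ) (nat_lit 0x842102) (nat_lit 0x2) (Nat.ble q (nat_lit 50))) (@Bool.rec (fun _ => ℕ) (nat_lit 0x5316c48d25181235316c48d25181230c) (nat_lit 0x52d8b48d251812352d8b48d25181230c) (Nat.ble q (nat_lit 48))) (Nat.ble q (nat_lit 49))) (Nat.ble q (nat_lit 51)))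

noncomputable def relt_8 (q : ℕ) : ℕ :=
  (@Bool.rec (fun _ => ℕ) (@Bool.rec (fun _ => ℕ) (nat_lit 0x6318c02) (@Bool.rec (fun _ => ℕ) (nat_lit 0x5ad6b02) (nat_lit 0x5294a02) (Nat.ble q (nat_lit 60))) (Nat.ble q (nat_lit 61))) (@Bool.rec (fun _ => ℕ) (@Bool.rec (fun _ => ℕ) (nat_lit 0x4a52902) (nat_lit 0x4210802) (Nat.ble q (nat_lit 58))) (@Bool.rec (fun _ => ℕ) (nat_lit 0x39ce702) (nat_lit 0x318c602) (Nat.ble q (nat_lit 56))) (Nat.ble q (nat_lit 57))) (Nat.ble q (nat_lit 59)))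

noncomputable def rel (q : ℕ) : ℕ :=
  (@Bool.rec (fun _ => ℕ) (@Bool.rec (fun _ => ℕ) (@Bool.rec (fun _ => ℕ) (relt_8 q) (relt_7 q) (Nat.ble q (nat_lit 55))) (@Bool.rec (fun _ => ℕ) (relt_6 q) (relt_5 q) (Nat.ble q (nat_lit 39))) (Nat.ble q (nat_lit 47))) (@Bool.rec (fun _ => ℕ) (@Bool.rec (fun _ => ℕ) (relt_4 q) (relt_3 q) (Nat.ble q (nat_lit 23))) (@Bool.rec (fun _ => ℕ) (relt_2 q) (relt_1 q) (Nat.ble q (nat_lit 7))) (Nat.ble q (nat_lit 15))) (Nat.ble q (nat_lit 31)))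

/-- inverse letters -/
noncomputable def iv : ℕ → ℕ := fun i => i

/-- the relators -/
def base : List (List ℕ) :=
  [[10, 0, 10, 0],
   [10, 1, 10, 2, 1],
   [10, 2, 10, 2],
   [10, 3, 10, 3, 0],
   [10, 4, 10, 5, 4, 2, 1],
   [10, 5, 10, 5, 2],
   [10, 6, 10, 7, 6],
   [10, 7, 10, 7],
   [10, 8, 10, 8],
   [10, 9, 10, 9],
   [11, 0, 11, 4, 2, 0],
   [11, 1, 11, 1],
   [11, 2, 11, 2, 1],
   [11, 3, 11, 5, 3, 2, 1, 0],
   [11, 4, 11, 4, 1],
   [11, 5, 11, 5, 4, 2, 1],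
   [11, 6, 11, 6],
   [11, 7, 11, 7, 6],
   [11, 8, 11, 7, 6, 5, 8, 6, 8, 7, 6, 1],
   [11, 9, 11, 9, 4, 2, 1],
   [10, 11, 10, 11, 10, 11],
   [11, 12, 11, 12, 11, 12],
   [10, 11, 12, 11, 9, 3, 9, 5, 3, 0, 9, 3],
   [10, 12, 11, 12, 9, 3, 9, 5, 3, 0, 9, 3]]

noncomputable def chk : ℕ → Bool := chkRow row rel (nat_lit 13) (nat_lit 6) (nat_lit 63) (nat_lit 1023) (nat_lit 1)

theorem b0 : ball chk (nat_lit 3) (nat_lit 0) = true := by decide +kernel

theorem rel_ok : relChk rel (allW iv 13 base) 2 = true := by decide +kernel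

theorem len_ok : 2 + (allW iv 13 base).length = 63 := by decide +kernel

theorem live_ok : bsum (fun c => b2n (live row 13 6 c)) 3 0 = 6 := by decide +kernel

theorem blk : ∀ j, j < 1 → ball chk 3 j = true
  | 0, _ => b0
  | n + 1, h => absurd h (by omega)

theorem cert : Cert 13 iv base 1023 6 :=
  ⟨⟨row, rel, 6, 1, by decide, by decide, rel_ok, by decide +kernel,
    len_ok ▸ rows_of_blocks (f := chk) (M := 6) (fun c h => chkRow_of_le c h) 1 (by decide) blk,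
    live_card (by decide) live_ok⟩⟩

end Cfsg.Agent.TC.HeRTM
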